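import Groth.Agent.Lib.SmoothStrat6.Ext

/-!
# A smooth piece of the reduction after a radicial extension
-/

set_option autoImplicit false
set_option linter.style.haveILetI false
set_option maxSynthPendingDepth 3
set_option maxHeartbeats 1000000

universe u

open TensorProduct

namespace GrothLib.SmoothStrat6

/-- Geometrical reducedness of the generic fibre of the reduction, given a surjection with nil kernel. -/
theorem isGeometricallyReduced_of_nil_ker (L R F : Type u) [Field L] [CommRing R] [CommRing F] [Algebra L R]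
    [Algebra L F] [_root_.IsReduced F] (θ : R →ₐ[L] F) (hs : Function.Surjective θ)
    (hk : RingHom.ker θ.toRingHom ≤ nilradical R) [Algebra.IsGeometricallyReduced L (R ⧸ nilradical R)] :
    Algebra.IsGeometricallyReduced L F := by
  have hle : nilradical R ≤ RingHom.ker θ.toRingHom := fun x hx => ((mem_nilradical.1 hx).map θ).eq_zero
  have hker : RingHom.ker θ = nilradical R := le_antisymm hk hle
  let e : (R ⧸ nilradical R) ≃ₐ[L] F :=
    (Ideal.quotientEquivAlgOfEq L hker.symm).trans (Ideal.quotientKerAlgEquivOfSurjective hs)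
  rw [Algebra.isGeometricallyReduced_field_iff]
  haveI := (Algebra.isGeometricallyReduced_field_iff L (R ⧸ nilradical R)).1 inferInstance
  exact isReduced_of_injective _
    (Algebra.TensorProduct.congr (AlgEquiv.refl (R := L) (A₁ := AlgebraicClosure L)) e.symm).injective

/-- The kernel of a base change of a surjection with nil kernel is nil. -/
theorem ker_map_le_nilradical (A' L C C₁ : Type u) [CommRing A'] [CommRing L] [CommRing C] [CommRing C₁] [Algebra A' L]
    [Algebra A' C] [Algebra A' C₁] (φ : C →ₐ[A'] C₁) (hφ : Function.Surjective φ)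
    (hI : RingHom.ker φ.toRingHom ≤ nilradical C) :
    RingHom.ker (Algebra.TensorProduct.map (AlgHom.id L L) φ).toRingHom ≤ nilradical (L ⊗[A'] C) := by
  have h := Algebra.TensorProduct.map_ker (AlgHom.id A' L) φ Function.surjective_id hφ
  intro x hx
  have hx' : x ∈ RingHom.ker (Algebra.TensorProduct.map (AlgHom.id A' L) φ) := hx
  rw [h] at hx'
  refine (sup_le (a := Ideal.map _ _) ?_ ?_ : _ ≤ nilradical (L ⊗[A'] C)) hx'
  · rw [show RingHom.ker (AlgHom.id A' L) = ⊥ from (RingHom.injective_iff_ker_eq_bot _).1 fun _ _ h => h, Ideal.map_bot]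
    exact bot_le
  · exact Ideal.map_le_iff_le_comap.2 fun c hc => mem_nilradical.2 ((mem_nilradical.1 (hI hc)).map _)

/-- The smooth piece of a reduced algebra with geometrically reduced generic fibre. -/
theorem exists_smooth_piece_reduced (A' L C₁ : Type u) [CommRing A'] [IsDomain A'] [IsNoetherianRing A'] [Field L]
    [Algebra A' L] [IsFractionRing A' L] [CommRing C₁] [Algebra A' C₁] [Algebra.FiniteType A' C₁]
    [Nontrivial (L ⊗[A'] C₁)] [Algebra.IsGeometricallyReduced L (L ⊗[A'] C₁)] :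
    ∃ (h : C₁) (Q : Ideal C₁),
      Q.IsPrime ∧ Q.comap (algebraMap A' C₁) = ⊥ ∧ h ∉ Q ∧ Algebra.Smooth A' (Localization.Away h) := by
  classical
  haveI : Algebra.FinitePresentation A' C₁ := Algebra.FinitePresentation.of_finiteType.1 inferInstance
  letI : Algebra C₁ (L ⊗[A'] C₁) := Algebra.TensorProduct.rightAlgebra
  haveI hloc : IsLocalization (Algebra.algebraMapSubmonoid C₁ (nonZeroDivisors A')) (L ⊗[A'] C₁) :=
    IsLocalization.tensorRight L (nonZeroDivisors A')
  obtain ⟨Q₀, hQ₀⟩ := Ideal.nonempty_minimalPrimes (R := L ⊗[A'] C₁) (I := ⊥) bot_ne_top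
  haveI := hQ₀.1.1
  have hsm₀ := GrothLib.LocAcyc.isSmoothAt_of_mem_minimalPrimes (k := L) Q₀ hQ₀
  haveI : Algebra.FinitePresentation L (L ⊗[A'] C₁) := inferInstance
  obtain ⟨_, ⟨e₀, rfl⟩, he₀, he₀sm⟩ := PrimeSpectrum.isTopologicalBasis_basic_opens.exists_subset_of_mem_open
    (a := (⟨Q₀, inferInstance⟩ : PrimeSpectrum (L ⊗[A'] C₁))) hsm₀
    (Algebra.isOpen_smoothLocus (R := L) (A := L ⊗[A'] C₁))
  obtain ⟨⟨c, s⟩, hcs⟩ := IsLocalization.surj (Algebra.algebraMapSubmonoid C₁ (nonZeroDivisors A')) e₀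
  have hu : IsUnit (algebraMap C₁ (L ⊗[A'] C₁) s) := IsLocalization.map_units _ s
  have hmem : ∀ Q : Ideal (L ⊗[A'] C₁), Q.IsPrime → ((1 : L) ⊗ₜ[A'] c ∈ Q ↔ e₀ ∈ Q) := fun Q hQ => by
    rw [show (1 : L) ⊗ₜ[A'] c = e₀ * algebraMap C₁ (L ⊗[A'] C₁) s from hcs.symm]
    exact Ideal.mul_unit_mem_iff_mem Q hu
  obtain ⟨r, hr, hsm⟩ := GrothLib.LocAcyc.exists_smooth_away (R' := A') (C₁ := C₁) (L := L) c fun Q hQ hc =>
    he₀sm (show (⟨Q, hQ⟩ : PrimeSpectrum (L ⊗[A'] C₁)) ∈ _ from fun h => hc ((hmem Q hQ).2 h))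
  let Q : Ideal C₁ := Q₀.comap (algebraMap C₁ (L ⊗[A'] C₁))
  haveI : Q.IsPrime := Ideal.IsPrime.comap _
  have hQA : Q.comap (algebraMap A' C₁) = ⊥ := by
    refine le_bot_iff.1 fun a ha => ?_
    by_contra ha0
    have hua : IsUnit (algebraMap C₁ (L ⊗[A'] C₁) (algebraMap A' C₁ a)) :=
      IsLocalization.map_units _ (⟨_, a, mem_nonZeroDivisors_of_ne_zero ha0, rfl⟩ :
        Algebra.algebraMapSubmonoid C₁ (nonZeroDivisors A'))
    exact hQ₀.1.1.ne_top (Ideal.eq_top_of_isUnit_mem _ ha hua)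
  refine ⟨algebraMap A' C₁ r * c, Q, inferInstance, hQA, fun h => ?_, hsm⟩
  rcases ‹Q.IsPrime›.mem_or_mem h with h' | h'
  · exact hr (Ideal.mem_bot.1 (hQA ▸ (show r ∈ Q.comap (algebraMap A' C₁) from h')))
  · exact he₀ ((hmem Q₀ inferInstance).1 h')

/-- The base change of a surjection with nil kernel. -/
theorem exists_map_nil_ker (A' L C C₁ : Type u) [CommRing A'] [CommRing L] [CommRing C] [CommRing C₁] [Algebra A' L]
    [Algebra A' C] [Algebra A' C₁] (φ : C →ₐ[A'] C₁) (hφ : Function.Surjective φ)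
    (hI : RingHom.ker φ.toRingHom ≤ nilradical C) :
    ∃ θ : L ⊗[A'] C →ₐ[L] L ⊗[A'] C₁, Function.Surjective θ ∧ RingHom.ker θ.toRingHom ≤ nilradical (L ⊗[A'] C) :=
  ⟨Algebra.TensorProduct.map (AlgHom.id L L) φ, fun z => by
      induction z with
      | zero => exact ⟨0, map_zero _⟩
      | tmul a b =>
        obtain ⟨c, rfl⟩ := hφ b
        exact ⟨a ⊗ₜ[A'] c, Algebra.TensorProduct.map_tmul _ _ _ _⟩
      | add x y hx hy =>
        obtain ⟨x', rfl⟩ := hx
        obtain ⟨y', rfl⟩ := hy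
        exact ⟨x' + y', map_add _ _ _⟩,
    ker_map_le_nilradical A' L C C₁ φ hφ hI⟩

/-- Generic geometric reducedness passes to the reduction. -/
theorem generic_of_reduction (A' L C C₁ : Type u) [CommRing A'] [IsDomain A'] [Field L] [Algebra A' L]
    [IsFractionRing A' L] [CommRing C] [Algebra A' C] [CommRing C₁] [Algebra A' C₁] [_root_.IsReduced C₁]
    (φ : C →ₐ[A'] C₁) (hφ : Function.Surjective φ) (hker : RingHom.ker φ.toRingHom ≤ nilradical C)
    [Nontrivial (L ⊗[A'] C)] [Algebra.IsGeometricallyReduced L ((L ⊗[A'] C) ⧸ nilradical (L ⊗[A'] C))] :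
    Nontrivial (L ⊗[A'] C₁) ∧ Algebra.IsGeometricallyReduced L (L ⊗[A'] C₁) := by
  haveI : _root_.IsReduced (L ⊗[A'] C₁) := by
    letI : Algebra C₁ (L ⊗[A'] C₁) := Algebra.TensorProduct.rightAlgebra
    haveI : IsLocalization (Algebra.algebraMapSubmonoid C₁ (nonZeroDivisors A')) (L ⊗[A'] C₁) :=
      IsLocalization.tensorRight L (nonZeroDivisors A')
    exact isReduced_localizationPreserves (Algebra.algebraMapSubmonoid C₁ (nonZeroDivisors A')) _ inferInstance
  obtain ⟨θ, hθs, hθk⟩ := exists_map_nil_ker A' L C C₁ φ hφ hker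
  refine ⟨?_, isGeometricallyReduced_of_nil_ker L _ _ θ hθs hθk⟩
  by_contra hF
  rw [not_nontrivial_iff_subsingleton] at hF
  obtain ⟨n, hn⟩ := mem_nilradical.1 (hθk (show (1 : L ⊗[A'] C) ∈ RingHom.ker θ.toRingHom from
    Subsingleton.elim _ _))
  exact one_ne_zero ((one_pow n).symm.trans hn)

/-- The smooth piece over a fixed domain. -/
theorem exists_smooth_piece_aux (A' L C : Type u) [CommRing A'] [IsDomain A'] [IsNoetherianRing A'] [Field L] [Algebra A' L]
    [IsFractionRing A' L] [CommRing C] [Algebra A' C] [Algebra.FiniteType A' C] [Nontrivial (L ⊗[A'] C)]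
    [Algebra.IsGeometricallyReduced L ((L ⊗[A'] C) ⧸ nilradical (L ⊗[A'] C))] :
    ∃ (h : C ⧸ nilradical C) (Q : Ideal (C ⧸ nilradical C)),
      Q.IsPrime ∧ Q.comap (algebraMap A' _) = ⊥ ∧ h ∉ Q ∧ Algebra.Smooth A' (Localization.Away h) := by
  haveI : _root_.IsReduced (C ⧸ nilradical C) := (Ideal.isRadical_iff_quotient_reduced _).mp (Ideal.radical_isRadical _)
  haveI : Algebra.FiniteType A' (C ⧸ nilradical C) :=
    Algebra.FiniteType.of_surjective (Ideal.Quotient.mkₐ A' _) (Ideal.Quotient.mkₐ_surjective _ _)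
  obtain ⟨h1, h2⟩ := generic_of_reduction A' L C (C ⧸ nilradical C) (Ideal.Quotient.mkₐ A' _)
    (Ideal.Quotient.mkₐ_surjective _ _) (Ideal.Quotient.mkₐ_ker A' _).le
  haveI := h1; haveI := h2
  exact exists_smooth_piece_reduced A' L (C ⧸ nilradical C)

/-- Transporting the generic fibre along a chain of extensions. -/
theorem baseChange_generic (A A' K k' B : Type u) [CommRing A] [CommRing A'] [Field K] [Field k'] [CommRing B]
    [Algebra A A'] [Algebra A K] [Algebra A k'] [Algebra K k'] [Algebra A' k'] [IsScalarTower A K k']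
    [IsScalarTower A A' k'] [Algebra A B] [Nontrivial (K ⊗[A] B)]
    [Algebra.IsGeometricallyReduced k' ((k' ⊗[K] (K ⊗[A] B)) ⧸ nilradical (k' ⊗[K] (K ⊗[A] B)))] :
    Nontrivial (k' ⊗[A'] (A' ⊗[A] B)) ∧
      Algebra.IsGeometricallyReduced k' ((k' ⊗[A'] (A' ⊗[A] B)) ⧸ nilradical (k' ⊗[A'] (A' ⊗[A] B))) := by
  let e : k' ⊗[K] (K ⊗[A] B) ≃ₐ[k'] k' ⊗[A'] (A' ⊗[A] B) :=
    (Algebra.TensorProduct.cancelBaseChange A K k' k' B).trans
      (Algebra.TensorProduct.cancelBaseChange A A' k' k' B).symm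
  haveI : Nontrivial (k' ⊗[K] (K ⊗[A] B)) :=
    (Algebra.TensorProduct.includeRight_injective (R := K) (A := k') (B := K ⊗[A] B)
      (algebraMap K k').injective).nontrivial
  refine ⟨e.injective.nontrivial, ?_⟩
  haveI : _root_.IsReduced ((k' ⊗[A'] (A' ⊗[A] B)) ⧸ nilradical (k' ⊗[A'] (A' ⊗[A] B))) :=
    (Ideal.isRadical_iff_quotient_reduced _).mp (Ideal.radical_isRadical _)
  refine isGeometricallyReduced_of_nil_ker k' (k' ⊗[K] (K ⊗[A] B)) _
    ((Ideal.Quotient.mkₐ k' (nilradical (k' ⊗[A'] (A' ⊗[A] B)))).comp e.toAlgHom)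
    ((Ideal.Quotient.mkₐ_surjective k' (nilradical (k' ⊗[A'] (A' ⊗[A] B)))).comp e.surjective) fun x hx => ?_
  obtain ⟨n, hn⟩ := mem_nilradical.1 (Ideal.Quotient.eq_zero_iff_mem.1 (show Ideal.Quotient.mk _ (e x) = 0 from hx))
  exact mem_nilradical.2 ⟨n, e.injective (by rw [map_pow, hn, map_zero])⟩

/-- The smooth piece. -/
theorem exists_ext_smooth_piece (A B : Type u) [CommRing A] [IsDomain A] [IsNoetherianRing A] [CommRing B]
    [Algebra A B] [Algebra.FiniteType A B] [Nontrivial (FractionRing A ⊗[A] B)] :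
    ∃ (A' : Type u) (_ : CommRing A') (_ : IsDomain A') (_ : Algebra A A'), IsExt A A' ∧
      ∃ (h : (A' ⊗[A] B) ⧸ nilradical (A' ⊗[A] B)) (Q : Ideal ((A' ⊗[A] B) ⧸ nilradical (A' ⊗[A] B))),
        Q.IsPrime ∧ Q.comap (algebraMap A' _) = ⊥ ∧ h ∉ Q ∧ Algebra.Smooth A' (Localization.Away h) := by
  classical
  let K := FractionRing A
  obtain ⟨k', _, _, hfin, hpi, hgr⟩ :=
    GrothLib.FBase7.exists_geometricallyReduced_quotient_nilradical (k := K) (K ⊗[A] B)
  letI : Algebra A k' := ((algebraMap K k').comp (algebraMap A K)).toAlgebra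
  haveI : IsScalarTower A K k' := IsScalarTower.of_algebraMap_eq' rfl
  obtain ⟨A', hext, hfr⟩ := exists_ext A K k'
  haveI := hfr
  haveI := hext.finite
  haveI : IsNoetherianRing A' := Algebra.FiniteType.isNoetherianRing A A'
  obtain ⟨hnt, hg⟩ := baseChange_generic A A' K k' B
  haveI := hnt; haveI := hg
  exact ⟨A', inferInstance, inferInstance, inferInstance, hext, exists_smooth_piece_aux A' k' (A' ⊗[A] B)⟩

end GrothLib.SmoothStrat6
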