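import Groth.Agent.Lib.SmoothStrat6.Strat
import Groth.Agent.Lib.SmoothStrat6.Piece
import Groth.Agent.Lib.RedSub.Basic
import Groth.Agent.Lib.AbsApprox.Rel

/-!
# The step of the smoothness stratification
-/

set_option autoImplicit false
set_option backward.isDefEq.respectTransparency false
set_option linter.style.haveILetI false

universe u

open CategoryTheory CategoryTheory.Limits AlgebraicGeometry TopologicalSpace
open scoped TensorProduct

noncomputable section

namespace GrothLib.SmoothStrat6

/-- The morphism of an extension. -/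
abbrev extMap (A A' : Type u) [CommRing A] [CommRing A'] [Algebra A A'] :
    Spec (CommRingCat.of A') ⟶ Spec (CommRingCat.of A) :=
  Spec.map (CommRingCat.ofHom (algebraMap A A'))

/-- A point over the generic point of a quasi-compact scheme over a domain, if the generic point is in the closure of the image. -/
theorem mem_range_of_mem_closure_range {A : Type u} [CommRing A] [IsDomain A] {X : Scheme.{u}}
    (f : X ⟶ Spec (CommRingCat.of A)) [CompactSpace X] (η : Spec (CommRingCat.of A))
    (hη : ((η : PrimeSpectrum A)).asIdeal = ⊥) (h : η ∈ closure (Set.range f)) : η ∈ Set.range f := by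
  obtain ⟨s, hs⟩ := isCompact_univ.elim_finite_subcover (fun U : X.affineOpens => (U.1 : Set X))
    (fun U => U.1.2) (fun x _ => by
      have := (iSup_affineOpens_eq_top X).ge (Set.mem_univ x)
      simpa using this)
  have hcov : Set.range f ⊆ ⋃ U ∈ s, Set.range (U.2.fromSpec ≫ f) := by
    rintro _ ⟨x, rfl⟩
    obtain ⟨U, hU, hxU⟩ := Set.mem_iUnion₂.1 (hs (Set.mem_univ x))
    obtain ⟨z, hz⟩ : x ∈ Set.range U.2.fromSpec := by rw [U.2.range_fromSpec]; exact hxU
    exact Set.mem_iUnion₂.2 ⟨U, hU, z, congrArg f hz⟩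
  have h' := closure_mono hcov h
  rw [Finset.closure_biUnion] at h'
  obtain ⟨U, -, hU⟩ := Set.mem_iUnion₂.1 h'
  let ψ := Spec.preimage (U.2.fromSpec ≫ f)
  have hψ : Spec.map ψ = U.2.fromSpec ≫ f := Spec.map_preimage _
  rw [← hψ] at hU
  have hU' : (η : PrimeSpectrum A) ∈ closure (Set.range (PrimeSpectrum.comap ψ.hom)) := hU
  rw [PrimeSpectrum.closure_range_comap, PrimeSpectrum.mem_zeroLocus, SetLike.coe_subset_coe, hη] at hU'
  obtain ⟨Q, hQ, hQc⟩ : ∃ Q : Ideal Γ(X, U.1), Q.IsPrime ∧ Q.comap ψ.hom = ⊥ := by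
    obtain ⟨Q, hQ, hQc⟩ := Ideal.exists_minimalPrimes_comap_eq (I := (⊥ : Ideal Γ(X, U.1))) ψ.hom ⊥ (by
      rw [← RingHom.ker_eq_comap_bot, le_bot_iff.1 hU']
      exact ⟨⟨Ideal.isPrime_bot, le_rfl⟩, fun _ _ _ => bot_le⟩)
    exact ⟨Q, hQ.1.1, hQc⟩
  refine ⟨U.2.fromSpec (⟨Q, hQ⟩ : PrimeSpectrum Γ(X, U.1)), ?_⟩
  show (U.2.fromSpec ≫ f) (⟨Q, hQ⟩ : PrimeSpectrum Γ(X, U.1)) = η
  rw [← hψ]
  exact PrimeSpectrum.ext (hQc.trans hη.symm)

/-- One step: after an extension there is a smooth open part of the reduction meeting the generic fibre. -/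
theorem exists_step {A : Type u} [CommRing A] [IsDomain A] [IsNoetherianRing A] {X : Scheme.{u}}
    (f : X ⟶ Spec (CommRingCat.of A)) [LocallyOfFiniteType f] (x : X)
    (hx : ((f x : PrimeSpectrum A)).asIdeal = ⊥) :
    ∃ (A' : Type u) (_ : CommRing A') (_ : IsDomain A') (_ : Algebra A A') (_ : IsNoetherianRing A'), IsExt A A' ∧
      ∃ (Z Z₁ : Scheme.{u}) (i : Z ⟶ pullback f (extMap A A')) (j : Z₁ ⟶ Z) (_ : IsClosedImmersion i)
        (_ : LocallyOfFinitePresentation i) (_ : Surjective i) (_ : IsClosedImmersion j)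
        (_ : LocallyOfFinitePresentation j),
        Smooth ((complOpen j).ι ≫ i ≫ pullback.snd f (extMap A A')) ∧ (complOpen j : Set Z).Nonempty := by
  classical
  obtain ⟨_, ⟨U, hU, rfl⟩, hxU, -⟩ := X.isBasis_affineOpens.exists_subset_of_mem_open (Set.mem_univ x) isOpen_univ
  replace hU : IsAffineOpen U := hU
  let φ := Spec.preimage (hU.fromSpec ≫ f)
  let B := Γ(X, U)
  letI : Algebra A B := φ.hom.toAlgebra
  have halg : Spec.map (CommRingCat.ofHom (algebraMap A B)) = hU.fromSpec ≫ f := Spec.map_preimage _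
  haveI : Algebra.FiniteType A B := by
    have h : LocallyOfFiniteType (Spec.map φ) := by rw [Spec.map_preimage]; infer_instance
    exact (HasRingHomProperty.Spec_iff (P := @LocallyOfFiniteType)).1 h
  haveI : Nontrivial (FractionRing A ⊗[A] B) := by
    let p := hU.primeIdealOf ⟨x, hxU⟩
    have hp : p.asIdeal.comap (algebraMap A B) = ⊥ := by
      have hpx : hU.fromSpec p = x := hU.fromSpec_primeIdealOf _
      refine Eq.trans ?_ ((congrArg (fun z => ((f z : PrimeSpectrum A)).asIdeal) hpx).trans hx)
      show (PrimeSpectrum.comap (algebraMap A B) p).asIdeal = _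
      rw [show PrimeSpectrum.comap (algebraMap A B) p = (hU.fromSpec ≫ f) p from by rw [← halg]; rfl]
      rfl
    let ρ : B →ₐ[A] p.asIdeal.ResidueField := IsScalarTower.toAlgHom A B p.asIdeal.ResidueField
    have hinj : Function.Injective (algebraMap A p.asIdeal.ResidueField) := by
      rw [injective_iff_map_eq_zero]
      intro a ha
      rw [IsScalarTower.algebraMap_apply A B p.asIdeal.ResidueField, Ideal.algebraMap_residueField_eq_zero] at ha
      exact Ideal.mem_bot.1 (hp ▸ (show a ∈ p.asIdeal.comap (algebraMap A B) from ha))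
    let σ : FractionRing A →ₐ[A] p.asIdeal.ResidueField :=
      { IsFractionRing.lift hinj with commutes' := fun a => IsFractionRing.lift_algebraMap hinj a }
    exact (Algebra.TensorProduct.lift σ ρ fun _ _ => Commute.all _ _).toRingHom.domain_nontrivial
  obtain ⟨A', _, _, _, hext, h, Q, hQ, hQA, hhQ, hsm⟩ := exists_ext_smooth_piece A B
  haveI := hext.finite
  haveI : IsNoetherianRing A' := Algebra.FiniteType.isNoetherianRing A A'
  let C := A' ⊗[A] B
  let C₁ := C ⧸ nilradical C
  let X' := pullback f (extMap A A')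
  -- the chart
  let mp : pullback (Spec.map (CommRingCat.ofHom (algebraMap A B))) (extMap A A') ⟶ X' :=
    pullback.map _ _ _ _ hU.fromSpec (𝟙 _) (𝟙 _) (by rw [Category.comp_id, halg]) (by simp)
  haveI : IsOpenImmersion mp := MorphismProperty.pullbackMap (P := @IsOpenImmersion) (inferInstanceAs (IsOpenImmersion hU.fromSpec)) (inferInstanceAs (IsOpenImmersion (𝟙 (Spec (CommRingCat.of A'))))) halg (Category.id_comp _).symm
  let M : Spec (CommRingCat.of C) ⟶ X' := (pullbackSpecIso A A' B).inv ≫ (pullbackSymmetry _ _).hom ≫ mp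
  have hMs : M ≫ pullback.snd f (extMap A A') = Spec.map (CommRingCat.ofHom (algebraMap A' C)) := by
    show ((pullbackSpecIso A A' B).inv ≫ (pullbackSymmetry _ _).hom ≫ mp) ≫ _ = _
    simp only [Category.assoc, mp, pullback.lift_snd, Category.comp_id, pullbackSymmetry_hom_comp_snd]
    exact pullbackSpecIso_inv_fst A A' B
  -- the reduction
  haveI : IsLocallyNoetherian X' := LocallyOfFiniteType.isLocallyNoetherian (pullback.snd f (extMap A A'))
  let I := Scheme.IdealSheafData.vanishingIdeal (⊤ : Closeds X')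
  let Z := I.subscheme
  let i : Z ⟶ X' := I.subschemeι
  have hi : Set.range i = Set.univ := GrothLib.RedSub.range_subschemeι_vanishingIdeal _
  haveI : IsReduced Z := GrothLib.RedSub.isReduced_subscheme_vanishingIdeal _
  haveI : Surjective i := ⟨Set.range_eq_univ.1 hi⟩
  haveI : IsClosedImmersion i := inferInstanceAs (IsClosedImmersion (Scheme.IdealSheafData.subschemeι _))
  haveI : LocallyOfFinitePresentation i := inferInstance
  haveI : IsLocallyNoetherian Z := LocallyOfFiniteType.isLocallyNoetherian i
  -- the chart of the reduction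
  let mk : Spec (CommRingCat.of C₁) ⟶ Spec (CommRingCat.of C) :=
    Spec.map (CommRingCat.ofHom (Ideal.Quotient.mk (nilradical C)))
  haveI : IsClosedImmersion mk := IsClosedImmersion.spec_of_surjective _ Ideal.Quotient.mk_surjective
  haveI : _root_.IsReduced C₁ := (Ideal.isRadical_iff_quotient_reduced _).mp (Ideal.radical_isRadical _)
  haveI : IsReduced (Spec (CommRingCat.of C₁)) := (affine_isReduced_iff (CommRingCat.of C₁)).2 inferInstance
  have hmk : Set.range mk = Set.univ := by
    refine Set.eq_univ_of_forall fun z => ?_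
    show z ∈ Set.range (PrimeSpectrum.comap (Ideal.Quotient.mk (nilradical C)))
    rw [range_comap_of_surjective _ _ Ideal.Quotient.mk_surjective, Ideal.mk_ker]
    exact nilradical_le_prime (PrimeSpectrum.asIdeal z)
  let P := pullback i M
  haveI : IsReduced P := isReduced_of_isOpenImmersion (pullback.fst i M)
  obtain ⟨e, he⟩ := GrothLib.RedSub.exists_iso_of_range_eq mk (pullback.snd i M) (by
    rw [hmk, Scheme.Pullback.range_snd, hi, Set.preimage_univ])
  let g : Spec (CommRingCat.of C₁) ⟶ Z := e.hom ≫ pullback.fst i M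
  have hg : g ≫ i = mk ≫ M := by
    show (e.hom ≫ pullback.fst i M) ≫ i = _
    rw [Category.assoc, pullback.condition, ← Category.assoc, he]
  let o : Spec (CommRingCat.of (Localization.Away h)) ⟶ Z :=
    Spec.map (CommRingCat.ofHom (algebraMap C₁ (Localization.Away h))) ≫ g
  haveI : IsOpenImmersion (Spec.map (CommRingCat.ofHom (algebraMap C₁ (Localization.Away h)))) :=
    IsOpenImmersion.of_isLocalization h
  haveI : IsOpenImmersion o := inferInstance
  have ho : o ≫ i ≫ pullback.snd f (extMap A A') =
      Spec.map (CommRingCat.ofHom (algebraMap A' (Localization.Away h))) := by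
    show (Spec.map _ ≫ g) ≫ i ≫ _ = _
    rw [Category.assoc, reassoc_of% hg, hMs, ← Spec.map_comp, ← Spec.map_comp, ← CommRingCat.ofHom_comp,
      ← CommRingCat.ofHom_comp]
    rfl
  let W := o.opensRange
  have hW : Smooth (W.ι ≫ i ≫ pullback.snd f (extMap A A')) := by
    refine (MorphismProperty.cancel_left_of_respectsIso (P := @Smooth) o.isoOpensRange.hom _).1 ?_
    rw [Scheme.Hom.isoOpensRange_hom_ι_assoc, ho, HasRingHomProperty.Spec_iff (P := @Smooth)]
    exact RingHom.smooth_algebraMap.2 hsm
  -- the complement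
  let T : Closeds Z := ⟨(W : Set Z)ᶜ, W.2.isClosed_compl⟩
  let J := Scheme.IdealSheafData.vanishingIdeal T
  let j : J.subscheme ⟶ Z := J.subschemeι
  haveI : IsClosedImmersion j := inferInstanceAs (IsClosedImmersion (Scheme.IdealSheafData.subschemeι _))
  have hcompl : complOpen j = W := TopologicalSpace.Opens.ext (by
    show (Set.range j)ᶜ = _
    rw [show Set.range j = (W : Set Z)ᶜ from GrothLib.RedSub.range_subschemeι_vanishingIdeal T, compl_compl])
  haveI : LocallyOfFinitePresentation j := inferInstance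
  haveI := hQ
  have hQh : ∃ q : PrimeSpectrum (Localization.Away h), True := by
    have : (⟨Q, hQ⟩ : PrimeSpectrum C₁) ∈ Set.range (PrimeSpectrum.comap (algebraMap C₁ (Localization.Away h))) := by
      rw [PrimeSpectrum.localization_away_comap_range (Localization.Away h) h]
      exact hhQ
    obtain ⟨q, -⟩ := this
    exact ⟨q, trivial⟩
  obtain ⟨q, -⟩ := hQh
  refine ⟨A', inferInstance, inferInstance, inferInstance, inferInstance, hext, Z, J.subscheme, i, j, inferInstance,
    inferInstance, inferInstance, inferInstance, inferInstance, ?_, ?_⟩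
  · rw [hcompl]; exact hW
  · rw [hcompl]; exact ⟨o q, ⟨q, rfl⟩⟩

end GrothLib.SmoothStrat6
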