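import Groth.Agent.Lib.FBase7.Models
import Groth.Agent.Lib.LocAcyc.GenericSmooth
import Groth.Agent.Lib.LocAcyc.FlatDivide
import Mathlib

/-!
# Finite radicial extensions of a domain making the reduction generically smooth somewhere
-/

set_option autoImplicit false
set_option linter.style.haveILetI false
set_option maxSynthPendingDepth 3

universe u

open TensorProduct CategoryTheory AlgebraicGeometry

namespace GrothLib.SmoothStrat6

/-- A finite radicial extension. -/
structure IsExt (A A' : Type u) [CommRing A] [CommRing A'] [Algebra A A'] : Prop where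
  inj : Function.Injective (algebraMap A A')
  finite : Module.Finite A A'
  radicial : UniversallyInjective (Spec.map (CommRingCat.ofHom (algebraMap A A')))

theorem IsExt.refl (A : Type u) [CommRing A] : IsExt A A :=
  ⟨fun _ _ h => h, inferInstance, by rw [Algebra.algebraMap_self, CommRingCat.ofHom_id, Spec.map_id]; infer_instance⟩

theorem IsExt.trans {A A' A'' : Type u} [CommRing A] [CommRing A'] [CommRing A''] [Algebra A A'] [Algebra A' A'']
    [Algebra A A''] [IsScalarTower A A' A''] (h : IsExt A A') (h' : IsExt A' A'') : IsExt A A'' := by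
  refine ⟨?_, ?_, ?_⟩
  · rw [IsScalarTower.algebraMap_eq A A' A'']; exact h'.inj.comp h.inj
  · haveI := h.finite; haveI := h'.finite; exact Module.Finite.trans A' A''
  · haveI := h.radicial; haveI := h'.radicial
    rw [IsScalarTower.algebraMap_eq A A' A'', CommRingCat.ofHom_comp, Spec.map_comp]
    exact MorphismProperty.comp_mem @UniversallyInjective _ _ h'.radicial h.radicial

/-- An algebra generated by radicals of elements of a domain is radicial. -/
theorem radicial_adjoin (A K : Type u) [CommRing A] [IsDomain A] [Field K] [Algebra A K] [FaithfulSMul A K]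
    (q : ℕ) [ExpChar A q] (s : Set K) (hs : ∀ y ∈ s, ∃ n, y ^ q ^ n ∈ (algebraMap A K).range) :
    UniversallyInjective (Spec.map (CommRingCat.ofHom (algebraMap A (Algebra.adjoin A s)))) := by
  let A' := Algebra.adjoin A s
  let T := A' ⊗[A] A'
  let Tr := T ⧸ nilradical T
  haveI : IsReduced Tr := (Ideal.isRadical_iff_quotient_reduced _).mp (Ideal.radical_isRadical _)
  let l : A' →ₐ[A] Tr := (Ideal.Quotient.mkₐ A (nilradical T)).comp Algebra.TensorProduct.includeLeft
  let r : A' →ₐ[A] Tr := (Ideal.Quotient.mkₐ A (nilradical T)).comp Algebra.TensorProduct.includeRight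
  have hinjA : Function.Injective (algebraMap A Tr) := by
    have hμ : ∀ x ∈ nilradical T, Algebra.TensorProduct.lmul' A (S := A') x = 0 := fun x hx =>
      ((mem_nilradical.1 hx).map (Algebra.TensorProduct.lmul' A (S := A'))).eq_zero
    let ψ : Tr →ₐ[A] A' := Ideal.Quotient.liftₐ (nilradical T) (Algebra.TensorProduct.lmul' A (S := A')) hμ
    intro a b e
    have h1 := congrArg ψ e
    rw [AlgHom.commutes, AlgHom.commutes] at h1
    exact FaithfulSMul.algebraMap_injective A K (congrArg Subtype.val h1)
  haveI : ExpChar Tr q := expChar_of_injective_ringHom hinjA q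
  have hlr : ∀ x, l x = r x := by
    intro x
    have : (AlgHom.equalizer l r : Subalgebra A A') = ⊤ := by
      rw [eq_top_iff, ← Algebra.adjoin_adjoin_coe_preimage (R := A) (s := s)]
      refine Algebra.adjoin_le fun y hy => ?_
      obtain ⟨n, a, ha⟩ := hs y.1 hy
      have hya : y ^ q ^ n = algebraMap A A' a := Subtype.ext ha.symm
      show l y = r y
      apply iterateFrobenius_inj Tr q n
      simp only [iterateFrobenius_def, ← map_pow, hya, AlgHom.commutes]
    exact (AlgHom.mem_equalizer l r x).1 (by rw [this]; trivial)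
  rw [UniversallyInjective.iff_diagonal, diagonal_SpecMap,
    MorphismProperty.cancel_right_of_respectsIso (P := @Surjective)]
  refine ⟨fun z => ?_⟩
  let z' : PrimeSpectrum T := z
  haveI := z'.2
  have hle : RingHom.ker (Algebra.TensorProduct.lmul' A (S := A')).toRingHom ≤ z'.asIdeal := by
    rw [show RingHom.ker (Algebra.TensorProduct.lmul' A (S := A')).toRingHom = KaehlerDifferential.ideal A A' from rfl,
      ← KaehlerDifferential.span_range_eq_ideal, Ideal.span_le]
    rintro _ ⟨x, rfl⟩
    have h := hlr x
    have : (1 : A') ⊗ₜ[A] x - x ⊗ₜ[A] (1 : A') ∈ nilradical T :=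
      Ideal.Quotient.eq.1 h.symm
    exact nilradical_le_prime z'.asIdeal this
  have hsurj : Function.Surjective (Algebra.TensorProduct.lmul' A (S := A')).toRingHom := fun x =>
    ⟨x ⊗ₜ 1, by simp⟩
  have hz : z' ∈ Set.range (PrimeSpectrum.comap (Algebra.TensorProduct.lmul' A (S := A')).toRingHom) := by
    rw [range_comap_of_surjective _ _ hsurj]
    exact hle
  exact hz

/-- The scaled generators of a finite purely inseparable extension of the fraction field. -/
theorem exists_ext (A K k' : Type u) [CommRing A] [IsDomain A] [Field K] [Algebra A K]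
    [IsFractionRing A K] [Field k'] [Algebra K k'] [Algebra A k'] [IsScalarTower A K k'] [FiniteDimensional K k']
    [IsPurelyInseparable K k'] :
    ∃ A' : Subalgebra A k', IsExt A A' ∧ IsFractionRing A' k' := by
  classical
  haveI : FaithfulSMul A k' := (faithfulSMul_iff_algebraMap_injective A k').2 (by
    rw [IsScalarTower.algebraMap_eq A K k']
    exact (algebraMap K k').injective.comp (IsFractionRing.injective A K))
  let q := ringExpChar K
  haveI : ExpChar K q := inferInstance
  haveI : ExpChar A q := (RingHom.expChar_iff (algebraMap A K) (IsFractionRing.injective A K) q).2 inferInstance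
  obtain ⟨S, hS⟩ := Module.Finite.fg_top (R := K) (M := k')
  have hsc : ∀ x : k', ∃ (c : A) (n : ℕ), c ≠ 0 ∧ (c • x) ^ q ^ n ∈ (algebraMap A k').range := by
    intro x
    obtain ⟨n, e, he⟩ := IsPurelyInseparable.pow_mem K q x
    obtain ⟨a, c, hc, rfl⟩ := IsFractionRing.div_surjective (A := A) e
    have hc0 : c ≠ 0 := nonZeroDivisors.ne_zero hc
    refine ⟨c, n, hc0, c ^ (q ^ n - 1) * a, ?_⟩
    have hpos : 1 ≤ q ^ n := Nat.one_le_pow _ _ (expChar_pos K q)
    rw [Algebra.smul_def, mul_pow, ← he, map_div₀, ← IsScalarTower.algebraMap_apply, ← IsScalarTower.algebraMap_apply,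
      map_mul, map_pow]
    have hck : algebraMap A k' c ≠ 0 := fun h => hc0 (FaithfulSMul.algebraMap_injective A k' (by simpa using h))
    field_simp
    rw [mul_right_comm, ← pow_succ, Nat.sub_add_cancel hpos]
    ring
  choose c n hc hn using hsc
  let Y : Set k' := (fun x => c x • x) '' (S : Set k')
  let A' := Algebra.adjoin A Y
  have hint : ∀ y ∈ Y, IsIntegral A y := by
    rintro _ ⟨x, -, rfl⟩
    obtain ⟨a, ha⟩ := hn x
    refine IsIntegral.of_pow (pow_pos (expChar_pos K q) (n x)) ?_
    rw [← ha]
    exact isIntegral_algebraMap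
  haveI hfin : Module.Finite A A' :=
    Algebra.finite_adjoin_of_finite_of_isIntegral (S.finite_toSet.image _) hint
  have hrad : UniversallyInjective (Spec.map (CommRingCat.ofHom (algebraMap A A'))) :=
    radicial_adjoin A k' q Y (by rintro _ ⟨x, -, rfl⟩; exact ⟨n x, hn x⟩)
  refine ⟨A', ⟨fun a b e => FaithfulSMul.algebraMap_injective A k' (congrArg Subtype.val e), hfin, hrad⟩, ?_⟩
  have hz : ∀ z : k', ∃ a : A, a ≠ 0 ∧ a • z ∈ A' := by
    intro z
    have hmem : z ∈ Submodule.span K (S : Set k') := by rw [hS]; trivial
    induction hmem using Submodule.span_induction with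
    | mem x hx => exact ⟨c x, hc x, Algebra.subset_adjoin ⟨x, hx, rfl⟩⟩
    | zero => exact ⟨1, one_ne_zero, by simp⟩
    | add x y _ _ hx hy =>
      obtain ⟨a, ha, hax⟩ := hx
      obtain ⟨b, hb, hby⟩ := hy
      refine ⟨a * b, mul_ne_zero ha hb, ?_⟩
      rw [smul_add, mul_comm a b, mul_smul, mul_comm b a, mul_smul]
      exact A'.add_mem (A'.smul_mem hax b) (A'.smul_mem hby a)
    | smul e x _ hx =>
      obtain ⟨a, ha, hax⟩ := hx
      obtain ⟨r, s, hs, rfl⟩ := IsFractionRing.div_surjective (A := A) e
      refine ⟨s * a, mul_ne_zero (nonZeroDivisors.ne_zero hs) ha, ?_⟩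
      have hsk : algebraMap A k' s ≠ 0 := fun h =>
        nonZeroDivisors.ne_zero hs (FaithfulSMul.algebraMap_injective A k' (by simpa using h))
      have : (s * a) • ((algebraMap A K r / algebraMap A K s) • x) = r • (a • x) := by
        simp only [Algebra.smul_def, map_mul, map_div₀, ← IsScalarTower.algebraMap_apply]
        field_simp
      rw [this]
      exact A'.smul_mem hax r
  refine IsFractionRing.of_field A' k' fun z => ?_
  obtain ⟨a, ha, haz⟩ := hz z
  refine ⟨⟨_, haz⟩, algebraMap A A' a, ?_⟩
  have hak : algebraMap A k' a ≠ 0 := fun h => ha (FaithfulSMul.algebraMap_injective A k' (by simpa using h))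
  show z = (a • z) / algebraMap A k' a
  rw [Algebra.smul_def, mul_div_cancel_left₀ _ hak]

end GrothLib.SmoothStrat6
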