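import Groth.Agent.Lib.SmoothStrat6.Main

/-!
# Smoothness stratification near a generic point of a reduced scheme
-/

set_option autoImplicit false
set_option backward.isDefEq.respectTransparency false
set_option linter.style.haveILetI false

universe u

open CategoryTheory CategoryTheory.Limits AlgebraicGeometry TopologicalSpace

noncomputable section

namespace GrothLib.SmoothStrat6

/-- An element of a minimal prime of a reduced ring is killed by an element outside of it. -/
theorem exists_mul_eq_zero_of_minimal {A : Type u} [CommRing A] [_root_.IsReduced A] (p : Ideal A) [p.IsPrime]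
    (hp : ∀ q : Ideal A, q.IsPrime → q ≤ p → q = p) {a : A} (ha : a ∈ p) : ∃ s ∉ p, s * a = 0 := by
  by_contra hcon
  have hnil : ¬ IsNilpotent (algebraMap A (Localization.AtPrime p) a) := fun ⟨n, hn⟩ => by
    rw [← map_pow, IsLocalization.map_eq_zero_iff p.primeCompl] at hn
    obtain ⟨m, hm⟩ := hn
    refine hcon ⟨m, m.2, IsReduced.eq_zero _ ⟨n + 1, ?_⟩⟩
    rw [mul_pow, pow_succ (m : A), pow_succ a, mul_assoc, ← mul_assoc (m : A), hm, zero_mul, mul_zero]
  rw [nilpotent_iff_mem_prime] at hnil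
  push_neg at hnil
  obtain ⟨Q, hQ, hQa⟩ := hnil
  have h := (IsLocalization.isPrime_iff_isPrime_disjoint p.primeCompl (Localization.AtPrime p) Q).1 hQ
  have h2 := hp _ h.1 (fun x hx => by_contra fun hxp => Set.disjoint_left.1 h.2 hxp hx)
  rw [← h2] at ha
  exact hQa ha

/-- Near a generic point of a reduced base, a morphism of finite presentation is stratified by smooth strata after a
finite, locally free, radicial, surjective base change. -/
theorem exists_strat_near_generic {X S : Scheme.{u}} (f : X ⟶ S) [LocallyOfFinitePresentation f] [QuasiCompact f]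
    [QuasiSeparated f] [IsReduced S] (η : S) (W : Set ↑S) (hW : W ∈ irreducibleComponents ↑S)
    (hη : IsGenericPoint η W) :
    ∃ (U : S.Opens) (V : Scheme.{u}) (v : V ⟶ (U : Scheme.{u})), η ∈ U ∧ Surjective v ∧ UniversallyInjective v ∧
      Mor2.IsFinLocFree v ∧ Strat (pullback.snd f (v ≫ U.ι)) := by
  classical
  obtain ⟨V0, hV0, hηV, -⟩ := exists_isAffineOpen_mem_and_subset (show η ∈ (⊤ : S.Opens) from trivial)
  obtain ⟨y, hy⟩ : η ∈ Set.range hV0.fromSpec := by rw [hV0.range_fromSpec]; exact hηV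
  let f' := pullback.snd f hV0.fromSpec
  obtain ⟨i, ⟨M⟩⟩ := GrothLib.LimDescend.exists_model (GrothLib.LimDescend.fgDiagram Γ(S, V0))
    (GrothLib.LimDescend.fgCone Γ(S, V0)) (GrothLib.LimDescend.isLimitFgCone Γ(S, V0)) f'
  let A : Type u := Γ(S, V0)
  haveI : _root_.IsReduced Γ(S, V0) := inferInstance
  let A₀ : Subalgebra ℤ Γ(S, V0) := i.unop.1
  haveI : Algebra.FiniteType ℤ A₀ := (Subalgebra.fg_iff_finiteType _).1 i.unop.2
  haveI : IsNoetherianRing A₀ := Algebra.FiniteType.isNoetherianRing ℤ A₀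
  let p : Ideal Γ(S, V0) := y.asIdeal
  haveI : p.IsPrime := y.isPrime
  have hmin : ∀ q : Ideal Γ(S, V0), q.IsPrime → q ≤ p → q = p := by
    intro q hq hqp
    let z : Spec Γ(S, V0) := ⟨q, hq⟩
    have hzy : z ⤳ y := (PrimeSpectrum.le_iff_specializes z y).1 hqp
    have h1 : hV0.fromSpec z ⤳ η := hy ▸ hzy.map hV0.fromSpec.continuous
    have h2 : W ⊆ closure {hV0.fromSpec z} := hη.def ▸ closure_minimal
      (Set.singleton_subset_iff.2 h1.mem_closure) isClosed_closure
    have h3 : η ⤳ hV0.fromSpec z :=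
      hη.specializes (hW.2 isIrreducible_singleton.closure h2 (subset_closure rfl))
    have h4 : z = y := hV0.fromSpec.isOpenEmbedding.injective ((h1.antisymm h3).eq.trans hy.symm)
    exact congrArg PrimeSpectrum.asIdeal h4
  let P : Ideal A₀ := p.comap (algebraMap A₀ Γ(S, V0))
  haveI : P.IsPrime := Ideal.IsPrime.comap _
  obtain ⟨G, hG⟩ := IsNoetherian.noetherian P
  have hex : ∀ g : G, ∃ s : Γ(S, V0), s ∉ p ∧ s * algebraMap A₀ Γ(S, V0) g.1 = 0 := fun g =>
    exists_mul_eq_zero_of_minimal p hmin (show (g.1 : A₀) ∈ P from hG ▸ Ideal.subset_span g.2)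
  choose s hsp hs0 using hex
  let sp : Γ(S, V0) := ∏ g, s g
  have hsp' : sp ∉ p := fun h => by
    obtain ⟨g, -, hg⟩ := (Ideal.IsPrime.prod_mem_iff).1 h
    exact hsp g hg
  let φ : A₀ →+* Localization.Away sp := (algebraMap Γ(S, V0) (Localization.Away sp)).comp (algebraMap A₀ Γ(S, V0))
  have hP : ∀ a ∈ P, φ a = 0 := by
    have : P ≤ RingHom.ker φ := by
      rw [← hG, Ideal.span_le]
      intro g hg
      have hu : IsUnit (algebraMap Γ(S, V0) (Localization.Away sp) (s ⟨g, hg⟩)) :=
        isUnit_of_dvd_unit (map_dvd _ (Finset.dvd_prod_of_mem s (Finset.mem_univ _)))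
          (IsLocalization.Away.algebraMap_isUnit sp)
      have h0 := congrArg (algebraMap Γ(S, V0) (Localization.Away sp)) (hs0 ⟨g, hg⟩)
      rw [map_mul, map_zero] at h0
      exact hu.mul_right_eq_zero.1 h0
    exact fun a ha => this ha
  let q0 : Spec (CommRingCat.of (↥A₀ ⧸ P)) ⟶ Spec (CommRingCat.of ↥A₀) :=
    Spec.map (CommRingCat.ofHom (Ideal.Quotient.mk P))
  let t : Spec (CommRingCat.of (Localization.Away sp)) ⟶ Spec (CommRingCat.of (↥A₀ ⧸ P)) :=
    Spec.map (CommRingCat.ofHom (Ideal.Quotient.lift P φ hP))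
  have ht : t ≫ q0 = bo sp ≫ (GrothLib.LimDescend.fgCone Γ(S, V0)).π.app i := by
    show Spec.map _ ≫ Spec.map _ = Spec.map _ ≫ Spec.map _
    rw [← Spec.map_comp, ← Spec.map_comp]
    rfl
  let h0 : pullback M.hom q0 ⟶ Spec (CommRingCat.of (↥A₀ ⧸ P)) := pullback.snd M.hom q0
  haveI : LocallyOfFiniteType M.hom := inferInstance
  haveI : LocallyOfFiniteType h0 := MorphismProperty.pullback_snd _ _ ‹LocallyOfFiniteType M.hom›
  haveI : QuasiCompact h0 := MorphismProperty.pullback_snd _ _ M.qc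
  obtain ⟨U₀, V₀, v₀, hU₀, hv1, hv2, ⟨hv3, hv4, hv5⟩, hstrat⟩ := exists_strat_open (↥A₀ ⧸ P) _ h0
  let h : Spec (CommRingCat.of (Localization.Away sp)) ⟶ S := bo sp ≫ hV0.fromSpec
  haveI : IsOpenImmersion (bo sp) := IsOpenImmersion.of_isLocalization sp
  haveI : IsOpenImmersion h := inferInstance
  let W' : (Spec (CommRingCat.of (Localization.Away sp))).Opens := t ⁻¹ᵁ U₀
  let U : S.Opens := h ''ᵁ W'
  let v' := pullback.snd v₀ (t ∣_ U₀)
  let g := pullback.fst v₀ (t ∣_ U₀)
  let v : pullback v₀ (t ∣_ U₀) ⟶ (U : Scheme.{u}) := v' ≫ (h.isoImage W').hom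
  have hηU : η ∈ U := by
    obtain ⟨y', hy'⟩ : (y : PrimeSpectrum Γ(S, V0)) ∈ Set.range (PrimeSpectrum.comap (algebraMap Γ(S, V0) (Localization.Away sp))) := by
      rw [PrimeSpectrum.localization_away_comap_range (Localization.Away sp) sp]
      exact hsp'
    have hy'' : bo sp y' = y := hy'
    refine ⟨y', ?_, (congrArg hV0.fromSpec hy'').trans hy⟩
    have hbot : (PrimeSpectrum.asIdeal (t y') : Ideal (↥A₀ ⧸ P)) = ⊥ := by
      refine eq_bot_iff.2 fun x hx => ?_
      obtain ⟨a, rfl⟩ := Ideal.Quotient.mk_surjective x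
      refine Ideal.Quotient.eq_zero_iff_mem.2 ?_
      show algebraMap A₀ Γ(S, V0) a ∈ y.asIdeal
      rw [← hy']
      exact hx
    obtain ⟨z, hz⟩ := hU₀
    exact ((PrimeSpectrum.le_iff_specializes (t y') z).1 (by
      show (PrimeSpectrum.asIdeal (t y') : Ideal (↥A₀ ⧸ P)) ≤ _
      rw [hbot]; exact bot_le)).mem_open U₀.2 hz
  haveI : Surjective v' := MorphismProperty.pullback_snd _ _ hv1
  haveI : UniversallyInjective v' := MorphismProperty.pullback_snd _ _ hv2
  haveI : IsFinite v' := MorphismProperty.pullback_snd _ _ hv3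
  haveI : Flat v' := MorphismProperty.pullback_snd _ _ hv4
  haveI : LocallyOfFinitePresentation v' := MorphismProperty.pullback_snd _ _ hv5
  haveI : UniversallyInjective v := MorphismProperty.comp_mem _ _ _ ‹UniversallyInjective v'› inferInstance
  refine ⟨U, _, v, hηU, inferInstance, inferInstance, ⟨inferInstance, inferInstance, inferInstance⟩, ?_⟩
  let w := v' ≫ W'.ι ≫ bo sp
  have hw : w ≫ (GrothLib.LimDescend.fgCone Γ(S, V0)).π.app i = g ≫ (v₀ ≫ U₀.ι) ≫ q0 := by
    simp only [w, g, v', Category.assoc]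
    rw [← ht, ← morphismRestrict_ι_assoc t U₀, ← pullback.condition_assoc]
  have hw' : w ≫ hV0.fromSpec = v ≫ U.ι := by
    simp only [w, v, h, Category.assoc]
    rw [Scheme.Hom.isoImage_hom_ι]
  -- the three descriptions of the fibre product
  have hA := (IsPullback.of_hasPullback h0 (v₀ ≫ U₀.ι)).paste_horiz (IsPullback.of_hasPullback M.hom q0)
  have hC := (IsPullback.of_hasPullback (pullback.snd h0 (v₀ ≫ U₀.ι)) g).paste_horiz hA
  have hsC := hstrat.baseChange (IsPullback.of_hasPullback (pullback.snd h0 (v₀ ≫ U₀.ι)) g)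
  have hD := (IsPullback.of_hasPullback f' w).paste_horiz M.isPullback
  rw [hw] at hD
  have hsD := Strat.of_isPullback hC hD hsC
  have hE := (IsPullback.of_hasPullback f' w).paste_horiz (IsPullback.of_hasPullback f hV0.fromSpec)
  rw [hw'] at hE
  exact Strat.of_isPullback hE (IsPullback.of_hasPullback f _) hsD

end GrothLib.SmoothStrat6
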