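import Groth.Agent.S0414
import Groth.Agent.Lib.RedSub.Basic
import Mathlib.AlgebraicGeometry.Morphisms.UniversallyOpen
import Mathlib.AlgebraicGeometry.Fiber

/-!
# Over a small open of an integral base a reduced scheme of finite type is quasi-separated
-/

set_option autoImplicit false
set_option backward.isDefEq.respectTransparency false
set_option linter.style.haveILetI false

universe u

open CategoryTheory CategoryTheory.Limits AlgebraicGeometry TopologicalSpace

noncomputable section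

namespace GrothLib.SmoothStrat6

/-- Quasi-separatedness can be read off from a finite affine cover. -/
theorem quasiSeparatedSpace_of_finite_affine_cover {X : Scheme.{u}} {ι : Type*} [Finite ι] (U : ι → X.Opens)
    (hU : ∀ i, IsAffineOpen (U i)) (hcov : ⨆ i, U i = ⊤)
    (hint : ∀ i j, IsCompact ((U i : Set X) ∩ U j)) : QuasiSeparatedSpace X := by
  have hqc : ∀ i, QuasiCompact (U i).ι := fun i => by
    refine IsZariskiLocalAtTarget.of_iSup_eq_top U hcov fun j => ?_
    haveI : IsAffine (U j : Scheme.{u}) := hU j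
    haveI : CompactSpace ((U i).ι ⁻¹ᵁ U j : Scheme.{u}) := by
      refine isCompact_iff_compactSpace.1 ((U i).ι.isOpenEmbedding.isEmbedding.isCompact_iff.2 ?_)
      show IsCompact ((U i).ι '' ((U i).ι ⁻¹' (U j : Set X)))
      rw [Set.image_preimage_eq_inter_range, Scheme.Opens.range_ι, Set.inter_comm]
      exact hint i j
    exact (HasAffineProperty.iff_of_isAffine (P := @QuasiCompact)).2 inferInstance
  have h1 : ∀ (V : X.affineOpens) i, IsCompact ((V.1 : Set X) ∩ U i) := fun V i => by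
    haveI := hqc i
    have h := ((U i).ι.isCompact_preimage V.2.isCompact).image (U i).ι.continuous
    change IsCompact ((U i).ι '' ((U i).ι ⁻¹' (V.1 : Set X))) at h
    rwa [Set.image_preimage_eq_inter_range, Scheme.Opens.range_ι] at h
  rw [quasiSeparatedSpace_iff_forall_affineOpens]
  intro V V'
  have h2 : (V.1 : Set X) ∩ V'.1 = ⋃ i, ((V.1 : Set X) ∩ U i) ∩ ((V'.1 : Set X) ∩ U i) := by
    ext x
    simp only [Set.mem_iUnion, Set.mem_inter_iff]
    refine ⟨fun h => ?_, fun ⟨i, h, h'⟩ => ⟨h.1, h'.1⟩⟩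
    obtain ⟨i, hi⟩ := Opens.mem_iSup.1 (hcov.ge (Set.mem_univ x))
    exact ⟨i, ⟨h.1, hi⟩, h.2, hi⟩
  rw [h2]
  refine isCompact_iUnion fun i => ?_
  haveI : IsAffine (U i : Scheme.{u}) := hU i
  have hA : IsCompact ((U i).ι ⁻¹' (V.1 : Set X)) := by
    rw [(U i).ι.isOpenEmbedding.isEmbedding.isCompact_iff, Set.image_preimage_eq_inter_range, Scheme.Opens.range_ι]
    exact h1 V i
  have hB : IsCompact ((U i).ι ⁻¹' (V'.1 : Set X)) := by
    rw [(U i).ι.isOpenEmbedding.isEmbedding.isCompact_iff, Set.image_preimage_eq_inter_range, Scheme.Opens.range_ι]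
    exact h1 V' i
  have h := (QuasiSeparatedSpace.inter_isCompact _ _ (V.1.2.preimage (U i).ι.continuous) hA
    (V'.1.2.preimage (U i).ι.continuous) hB).image (U i).ι.continuous
  change IsCompact ((U i).ι '' ((U i).ι ⁻¹' (V.1 : Set X) ∩ (U i).ι ⁻¹' (V'.1 : Set X))) at h
  rwa [Set.image_inter (U i).ι.isOpenEmbedding.injective, Set.image_preimage_eq_inter_range, Set.image_preimage_eq_inter_range,
    Scheme.Opens.range_ι] at h

variable {A : Type u} [CommRing A] [IsDomain A] {X : Scheme.{u}} (h : X ⟶ Spec (CommRingCat.of A))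
  [LocallyOfFiniteType h]

/-- An open whose generic fibre is contained in a quasi-compact open is contained in it near the generic point. -/
theorem exists_inter_le_of_generic (η : Spec (CommRingCat.of A)) (hη : ((η : PrimeSpectrum A)).asIdeal = ⊥)
    {U : X.Opens} (hU : IsAffineOpen U) (O W : X.Opens) (hOU : O ≤ U)
    (hgen : ∀ x ∈ O, h x = η → x ∈ W) :
    ∃ D : (Spec (CommRingCat.of A)).Opens, η ∈ D ∧ O ⊓ h ⁻¹ᵁ D ≤ W := by
  haveI : IsAffine (U : Scheme.{u}) := hU
  haveI : IsReduced (Spec (CommRingCat.of A)) := inferInstance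
  let T : Closeds (U : Scheme.{u}) := ⟨(U.ι ⁻¹' (W : Set X))ᶜ, (W.2.preimage U.ι.continuous).isClosed_compl⟩
  let I := Scheme.IdealSheafData.vanishingIdeal T
  let g : I.subscheme ⟶ Spec (CommRingCat.of A) := I.subschemeι ≫ U.ι ≫ h
  haveI : CompactSpace I.subscheme := I.subschemeι.isClosedEmbedding.compactSpace
  haveI : QuasiCompact g := (HasAffineProperty.iff_of_isAffine (P := @QuasiCompact)).2 inferInstance
  haveI : LocallyOfFiniteType g := inferInstance
  obtain ⟨D, hD, hflat, -⟩ := Groth.Agent.S0414.result g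
  have hηD : η ∈ D := by
    obtain ⟨z, hz⟩ := hD.nonempty
    exact ((PrimeSpectrum.le_iff_specializes η z).1 (by show (PrimeSpectrum.asIdeal η) ≤ _; rw [hη]; exact bot_le)).mem_open D.2 hz
  refine ⟨D, hηD, fun x hx => by_contra fun hxW => ?_⟩
  obtain ⟨z, hz⟩ : (⟨x, hOU hx.1⟩ : (U : Scheme.{u})) ∈ Set.range I.subschemeι := by
    rw [GrothLib.RedSub.range_subschemeι_vanishingIdeal T]
    exact hxW
  have hzx : U.ι (I.subschemeι z) = x := by rw [hz]; rfl
  have hgz : g z = h x := by
    show (I.subschemeι ≫ U.ι ≫ h) z = h x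
    simp only [Scheme.Hom.comp_apply]
    rw [hzx]
  have hzD : z ∈ g ⁻¹ᵁ D := show g z ∈ D from hgz.symm ▸ hx.2
  let zD : (g ⁻¹ᵁ D).toScheme := ⟨z, hzD⟩
  have hsp : (⟨η, hηD⟩ : D.toScheme) ⤳ (g ∣_ D) zD := by
    refine (subtype_specializes_iff (⟨η, hηD⟩ : D) _).2 ?_
    exact (PrimeSpectrum.le_iff_specializes η _).1 (by show (PrimeSpectrum.asIdeal η) ≤ _; rw [hη]; exact bot_le)
  obtain ⟨z', hz', hz'η⟩ := (Flat.generalizingMap (g ∣_ D)) hsp
  have hsp' : U.ι (I.subschemeι z'.1) ⤳ x := by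
    rw [← hzx]
    exact ((hz'.map (g ⁻¹ᵁ D).ι.continuous).map I.subschemeι.continuous).map U.ι.continuous
  have hO : U.ι (I.subschemeι z'.1) ∈ O := hsp'.mem_open O.2 hx.1
  have hgη : g z'.1 = η := by
    exact (morphismRestrict_base_coe g D z').symm.trans (congrArg Subtype.val hz'η)
  have hW : U.ι (I.subschemeι z'.1) ∈ W := hgen _ hO (by rw [← hgη]; rfl)
  have : I.subschemeι z'.1 ∈ (T : Set (U : Scheme.{u})) := by
    rw [← GrothLib.RedSub.range_subschemeι_vanishingIdeal T]
    exact ⟨_, rfl⟩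
  exact this hW

end GrothLib.SmoothStrat6
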