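import Groth.Agent.Lib.SmoothStrat6.GenQS
import Mathlib.AlgebraicGeometry.Noetherian

/-!
# Shrinking an integral base: flatness, finite presentation and quasi-separatedness of a reduced source
-/

set_option autoImplicit false
set_option backward.isDefEq.respectTransparency false
set_option linter.style.haveILetI false

universe u

open CategoryTheory CategoryTheory.Limits AlgebraicGeometry TopologicalSpace

noncomputable section

namespace GrothLib.SmoothStrat6

/-- A pullback of a reduced scheme along a flat preimmersion is reduced. -/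
theorem isReduced_pullback_of_flat_preimmersion {X S T : Scheme.{u}} (h : X ⟶ S) (t : T ⟶ S) [IsPreimmersion t]
    [Flat t] [IsReduced X] : IsReduced (pullback h t) := by
  haveI : ∀ x : (pullback h t : Scheme.{u}), _root_.IsReduced ((pullback h t).presheaf.stalk x) := fun x => by
    let φ : X.presheaf.stalk (pullback.fst h t x) →+* (pullback h t).presheaf.stalk x :=
      ((pullback.fst h t).stalkMap x).hom
    haveI : IsLocalHom φ := inferInstanceAs (IsLocalHom ((pullback.fst h t).stalkMap x).hom)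
    have hfl : φ.Flat := Flat.stalkMap (pullback.fst h t) x
    have hsurj : Function.Surjective φ := (pullback.fst h t).stalkMap_surjective x
    algebraize [φ]
    haveI : IsLocalHom (algebraMap (X.presheaf.stalk (pullback.fst h t x)) ((pullback h t).presheaf.stalk x)) :=
      inferInstanceAs (IsLocalHom φ)
    haveI := Module.FaithfullyFlat.of_flat_of_isLocalHom
      (A := X.presheaf.stalk (pullback.fst h t x)) (B := (pullback h t).presheaf.stalk x)
    let e := RingEquiv.ofBijective φ ⟨FaithfulSMul.algebraMap_injective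
      (X.presheaf.stalk (pullback.fst h t x)) ((pullback h t).presheaf.stalk x), hsurj⟩
    exact isReduced_of_injective e.symm.toRingHom e.symm.injective
  exact isReduced_of_isReduced_stalk _

variable {A : Type u} [CommRing A] [IsDomain A] {X : Scheme.{u}} (h : X ⟶ Spec (CommRingCat.of A))
  [LocallyOfFiniteType h]

omit [IsDomain A] [LocallyOfFiniteType h] in
/-- An affine open meets the preimage of a basic open in an affine open. -/
theorem isAffineOpen_inf_preimage {V : X.Opens} (hV : IsAffineOpen V) (a : A) :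
    IsAffineOpen (V ⊓ h ⁻¹ᵁ PrimeSpectrum.basicOpen a) := by
  rw [← basicOpen_eq_of_affine (R := CommRingCat.of A) a, Scheme.preimage_basicOpen, inf_comm]
  have := hV.basicOpen (X.presheaf.map (homOfLE (show V ≤ h ⁻¹ᵁ ⊤ from le_top)).op
    (h.app ⊤ ((Scheme.ΓSpecIso (CommRingCat.of A)).inv a)))
  rwa [Scheme.basicOpen_res, inf_comm] at this

/-- A reduced scheme of finite type over a domain is flat, of finite presentation and quasi-separated over a
non-empty basic open. -/
theorem exists_basicOpen_flat_qs [QuasiCompact h] [IsReduced X] :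
    ∃ a : A, a ≠ 0 ∧ Flat (h ∣_ PrimeSpectrum.basicOpen a) ∧
      LocallyOfFinitePresentation (h ∣_ PrimeSpectrum.basicOpen a) ∧
      QuasiCompact (h ∣_ PrimeSpectrum.basicOpen a) ∧ QuasiSeparated (h ∣_ PrimeSpectrum.basicOpen a) := by
  classical
  let η : PrimeSpectrum A := ⟨⊥, Ideal.isPrime_bot⟩
  obtain ⟨D₀, hD₀, hflat, hlfp⟩ := Groth.Agent.S0414.result h
  have hηD₀ : (η : Spec (CommRingCat.of A)) ∈ D₀ := by
    obtain ⟨z, hz⟩ := hD₀.nonempty
    exact ((PrimeSpectrum.le_iff_specializes η z).1 bot_le).mem_open D₀.2 hz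
  haveI : CompactSpace X := QuasiCompact.compactSpace_of_compactSpace h
  obtain ⟨s, hs⟩ := isCompact_univ.elim_finite_subcover (fun U : X.affineOpens => (U.1 : Set X))
    (fun U => U.1.2) (fun x _ => by
      have := (iSup_affineOpens_eq_top X).ge (Set.mem_univ x)
      simpa using this)
  let F := h.fiber (η : Spec (CommRingCat.of A))
  haveI : LocallyOfFiniteType (h.fiberToSpecResidueField (η : Spec (CommRingCat.of A))) :=
    MorphismProperty.pullback_snd _ _ ‹LocallyOfFiniteType h›
  haveI : QuasiCompact (h.fiberToSpecResidueField (η : Spec (CommRingCat.of A))) :=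
    MorphismProperty.pullback_snd _ _ ‹QuasiCompact h›
  haveI : IsLocallyNoetherian F :=
    LocallyOfFiniteType.isLocallyNoetherian (h.fiberToSpecResidueField (η : Spec (CommRingCat.of A)))
  haveI : CompactSpace F := QuasiCompact.compactSpace_of_compactSpace (h.fiberToSpecResidueField (η : Spec (CommRingCat.of A)))
  haveI : IsNoetherian F := {}
  have key : ∀ U V : X.affineOpens, ∃ (D : (Spec (CommRingCat.of A)).Opens) (t : Finset X.affineOpens),
      (η : Spec (CommRingCat.of A)) ∈ D ∧ (∀ W ∈ t, W.1 ≤ U.1 ⊓ V.1) ∧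
      (U.1 ⊓ V.1) ⊓ h ⁻¹ᵁ D ≤ t.sup (fun W => W.1) := by
    intro U V
    let O : X.Opens := U.1 ⊓ V.1
    have hK : IsCompact ((O : Set X) ∩ Set.range (h.fiberι (η : Spec (CommRingCat.of A)))) := by
      rw [← Set.image_preimage_eq_inter_range]
      exact (TopologicalSpace.NoetherianSpace.isCompact _).image (h.fiberι _).continuous
    obtain ⟨t, ht⟩ := hK.elim_finite_subcover (fun W : {W : X.affineOpens // W.1 ≤ O} => (W.1.1 : Set X))
      (fun W => W.1.1.2) (fun x hx => by
        obtain ⟨_, ⟨W, hW, rfl⟩, hxW, hWO⟩ := X.isBasis_affineOpens.exists_subset_of_mem_open hx.1 O.2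
        exact Set.mem_iUnion.2 ⟨⟨⟨W, hW⟩, hWO⟩, hxW⟩)
    obtain ⟨D, hD, hle⟩ := exists_inter_le_of_generic h (η : Spec (CommRingCat.of A)) rfl U.2 O
      ((t.image Subtype.val).sup (fun W => W.1)) inf_le_left fun x hxO hx => by
        obtain ⟨W, hW, hxW⟩ := Set.mem_iUnion₂.1 (ht ⟨hxO, by rw [Scheme.Hom.range_fiberι]; exact hx⟩)
        exact (Finset.le_sup (f := fun W : X.affineOpens => W.1) (Finset.mem_image_of_mem Subtype.val hW)) hxW
    exact ⟨D, t.image Subtype.val, hD, fun W hW => by
      obtain ⟨W', -, rfl⟩ := Finset.mem_image.1 hW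
      exact W'.2, hle⟩
  choose D t hD ht hle using key
  let D' : (Spec (CommRingCat.of A)).Opens := D₀ ⊓ (s ×ˢ s).inf fun p => D p.1 p.2
  have hηD' : (η : Spec (CommRingCat.of A)) ∈ D' :=
    ⟨hηD₀, Finset.inf_induction (p := fun D : (Spec (CommRingCat.of A)).Opens => (η : Spec (CommRingCat.of A)) ∈ D)
      trivial (fun _ h₁ _ h₂ => ⟨h₁, h₂⟩) (fun p _ => hD p.1 p.2)⟩
  obtain ⟨_, ⟨a, rfl⟩, ha, haD⟩ := PrimeSpectrum.isTopologicalBasis_basic_opens.exists_subset_of_mem_open
    (a := η) hηD' D'.2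
  let B : (Spec (CommRingCat.of A)).Opens := PrimeSpectrum.basicOpen a
  have hBD : B ≤ D₀ := fun x hx => (haD hx).1
  have hres : (Spec (CommRingCat.of A)).homOfLE hBD ≫ D₀.ι = B.ι := Scheme.homOfLE_ι _ _
  have hsq : IsPullback (X.homOfLE (h.preimage_mono hBD)) (h ∣_ B) (h ∣_ D₀)
      ((Spec (CommRingCat.of A)).homOfLE hBD) := by
    refine IsPullback.of_right ?_ ?_ (isPullback_morphismRestrict h D₀).flip
    · rw [Scheme.homOfLE_ι, hres]; exact (isPullback_morphismRestrict h B).flip
    · rw [← cancel_mono D₀.ι, Category.assoc, Category.assoc, morphismRestrict_ι, hres, morphismRestrict_ι,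
        Scheme.homOfLE_ι_assoc]
  haveI : IsAffine (B : Scheme.{u}) := by
    have : IsAffineOpen B := by
      show IsAffineOpen (X := Spec (CommRingCat.of A)) (PrimeSpectrum.basicOpen a)
      rw [← basicOpen_eq_of_affine (R := CommRingCat.of A) a]
      exact (isAffineOpen_top _).basicOpen _
    exact this
  refine ⟨a, fun h => ha (show a ∈ η.asIdeal from h ▸ Submodule.zero_mem _), MorphismProperty.of_isPullback hsq hflat,
    MorphismProperty.of_isPullback hsq hlfp, inferInstance, ?_⟩
  refine (HasAffineProperty.iff_of_isAffine (P := @QuasiSeparated)).2 ?_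
  let P := h ⁻¹ᵁ B
  refine quasiSeparatedSpace_of_finite_affine_cover (fun U : s => P.ι ⁻¹ᵁ (U.1.1 ⊓ P)) (fun U => ?_) ?_ fun U V => ?_
  · exact (isAffineOpen_inf_preimage h U.1.2 a).preimage_of_isOpenImmersion P.ι (by
      rw [Scheme.Opens.opensRange_ι]; exact inf_le_right)
  · refine top_le_iff.1 fun x _ => ?_
    obtain ⟨U, hU, hxU⟩ := Set.mem_iUnion₂.1 (hs (Set.mem_univ x.1))
    exact Opens.mem_iSup.2 ⟨⟨U, hU⟩, hxU, x.2⟩
  · rw [P.ι.isOpenEmbedding.isEmbedding.isCompact_iff]
    have he : P.ι '' ((P.ι ⁻¹ᵁ (U.1.1 ⊓ P) : Set P.toScheme) ∩ (P.ι ⁻¹ᵁ (V.1.1 ⊓ P) : Set P.toScheme)) =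
        ⋃ W ∈ t U.1 V.1, ((W.1 ⊓ P : X.Opens) : Set X) := by
      ext x
      constructor
      · rintro ⟨y, ⟨⟨hyU, hyP⟩, hyV, -⟩, rfl⟩
        have hxD : h (P.ι y) ∈ D U.1 V.1 :=
          (Finset.inf_le (f := fun p : X.affineOpens × X.affineOpens => D p.1 p.2)
            (Finset.mk_mem_product U.2 V.2)) (haD hyP).2
        obtain ⟨W, hW, hxW⟩ : ∃ W ∈ t U.1 V.1, P.ι y ∈ W.1 := by
          have := hle U.1 V.1 ⟨⟨hyU, hyV⟩, hxD⟩
          rw [Finset.sup_eq_iSup] at this
          simpa using this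
        exact Set.mem_iUnion₂.2 ⟨W, hW, hxW, hyP⟩
      · intro hx
        obtain ⟨W, hW, hxW, hxP⟩ := Set.mem_iUnion₂.1 hx
        exact ⟨⟨x, hxP⟩, ⟨⟨(ht U.1 V.1 W hW hxW).1, hxP⟩, (ht U.1 V.1 W hW hxW).2, hxP⟩, rfl⟩
    rw [he]
    exact (t U.1 V.1).isCompact_biUnion fun W _ => (isAffineOpen_inf_preimage h W.2 a).isCompact

end GrothLib.SmoothStrat6
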