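import Groth.Agent.Lib.SmoothStrat6.Chart
import Groth.Agent.Lib.Rigidity.Isogeny
import Groth.Agent.Lib.LimDescend.FgSub
import Groth.Agent.Lib.LimDescend.Scheme
import Groth.Prelude.Def_Mor2

/-!
# Smoothness stratification near a generic point
-/

set_option autoImplicit false
set_option backward.isDefEq.respectTransparency false
set_option linter.style.haveILetI false

universe u

open CategoryTheory CategoryTheory.Limits AlgebraicGeometry TopologicalSpace

noncomputable section

namespace GrothLib.SmoothStrat6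

/-- Stratifications do not depend on the choice of a fibre product. -/
theorem Strat.of_isPullback {X S S' P P' : Scheme.{u}} {f : X ⟶ S} {g : S' ⟶ S} {p : P ⟶ X} {q : P ⟶ S'}
    {p' : P' ⟶ X} {q' : P' ⟶ S'} (h : IsPullback p q f g) (h' : IsPullback p' q' f g) (hs : Strat q) : Strat q' :=
  hs.baseChange (g := 𝟙 S') (IsPullback.of_horiz_isIso
    (show CommSq (h'.isoIsPullback _ _ h).hom q' q (𝟙 S') from ⟨by rw [h'.isoIsPullback_hom_snd _ _ h, Category.comp_id]⟩))

/-- A step before base change and a stratification of the rest after it. -/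
theorem Strat.step_baseChange {X S Z Z₁ : Scheme.{u}} (f : X ⟶ S) (i : Z ⟶ X) (j : Z₁ ⟶ Z) [IsClosedImmersion i]
    [LocallyOfFinitePresentation i] [Surjective i] [IsClosedImmersion j] [LocallyOfFinitePresentation j]
    (hsm : Smooth ((complOpen j).ι ≫ i ≫ f)) {S' : Scheme.{u}} (v : S' ⟶ S)
    (h : Strat (pullback.snd (j ≫ i ≫ f) v)) : Strat (pullback.snd f v) := by
  let p := pullback.fst f v
  let i' := pullback.snd i p
  have hZ : IsPullback (pullback.fst i p) (i' ≫ pullback.snd f v) (i ≫ f) v :=
    (IsPullback.of_hasPullback i p).paste_vert (IsPullback.of_hasPullback f v)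
  let j' := pullback.snd j (pullback.fst i p)
  have hZ₁ : IsPullback (pullback.fst j (pullback.fst i p)) (j' ≫ i' ≫ pullback.snd f v) (j ≫ i ≫ f) v :=
    (IsPullback.of_hasPullback j (pullback.fst i p)).paste_vert hZ
  haveI : IsClosedImmersion i' := MorphismProperty.pullback_snd _ _ ‹IsClosedImmersion i›
  haveI : LocallyOfFinitePresentation i' := MorphismProperty.pullback_snd _ _ ‹LocallyOfFinitePresentation i›
  haveI : Surjective i' := MorphismProperty.pullback_snd _ _ ‹Surjective i›
  haveI : IsClosedImmersion j' := MorphismProperty.pullback_snd _ _ ‹IsClosedImmersion j›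
  haveI : LocallyOfFinitePresentation j' := MorphismProperty.pullback_snd _ _ ‹LocallyOfFinitePresentation j›
  refine Strat.step _ i' j' ?_ (Strat.of_isPullback (IsPullback.of_hasPullback _ _) hZ₁ h)
  have hV : pullback.fst i p ⁻¹ᵁ complOpen j = complOpen j' := TopologicalSpace.Opens.ext (by
    show (pullback.fst i p) ⁻¹' (Set.range j)ᶜ = (Set.range j')ᶜ
    rw [Scheme.Pullback.range_snd, Set.preimage_compl])
  have hsq := (isPullback_morphismRestrict (pullback.fst i p) (complOpen j)).paste_vert hZ
  have h1 : Smooth ((pullback.fst i p ⁻¹ᵁ complOpen j).ι ≫ i' ≫ pullback.snd f v) :=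
    MorphismProperty.of_isPullback hsq hsm
  exact hV ▸ h1

/-- The open immersion of a basic open. -/
abbrev bo {A : Type u} [CommRing A] (g : A) : Spec (CommRingCat.of (Localization.Away g)) ⟶ Spec (CommRingCat.of A) :=
  Spec.map (CommRingCat.ofHom (algebraMap A (Localization.Away g)))

/-- The recursion. -/
theorem exists_strat {X₀ : Type u} [TopologicalSpace X₀] [NoetherianSpace X₀] (T : Closeds X₀) :
    ∀ (A : Type u) [CommRing A] [IsDomain A] [IsNoetherianRing A] (Y : Scheme.{u}) (f : Y ⟶ Spec (CommRingCat.of A))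
      [LocallyOfFiniteType f] [CompactSpace Y] (π : Y → X₀), Topology.IsClosedEmbedding π → Set.range π ⊆ (T : Set X₀) →
      ∃ (A' : Type u) (_ : CommRing A') (_ : IsDomain A') (_ : Algebra A A') (_ : IsExt A A') (g : A'),
        g ≠ 0 ∧ Strat (pullback.snd f (bo g ≫ extMap A A')) := by
  induction T using WellFoundedLT.induction with
  | _ T ih =>
    intro A _ _ _ Y f _ _ π hπ hT
    let η : PrimeSpectrum A := ⟨⊥, Ideal.isPrime_bot⟩
    by_cases hη : η ∈ Set.range f
    swap
    · obtain ⟨_, ⟨g, rfl⟩, hgη, hgf⟩ := PrimeSpectrum.isTopologicalBasis_basic_opens.exists_subset_of_mem_open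
        (a := η) (show η ∈ (closure (Set.range f))ᶜ from fun h => hη (mem_range_of_mem_closure_range f η rfl h))
        isClosed_closure.isOpen_compl
      have hg0 : g ≠ 0 := fun h => hgη (show g ∈ η.asIdeal from h ▸ Submodule.zero_mem _)
      refine ⟨A, inferInstance, inferInstance, inferInstance, IsExt.refl A, g, hg0, ?_⟩
      haveI : IsEmpty (pullback f (bo g ≫ extMap A A) : Scheme.{u}) := ⟨fun z => by
        let y := (bo g) (pullback.snd f (bo g ≫ extMap A A) z)
        have hy : (y : PrimeSpectrum A) ∈ (PrimeSpectrum.basicOpen g : Set (PrimeSpectrum A)) := by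
          rw [← PrimeSpectrum.localization_away_comap_range (Localization.Away g) g]
          exact ⟨_, rfl⟩
        refine hgf hy (subset_closure ⟨pullback.fst f (bo g ≫ extMap A A) z, ?_⟩)
        show (pullback.fst f (bo g ≫ extMap A A) ≫ f) z = y
        rw [pullback.condition]
        show extMap A A y = y
        simp [extMap]⟩
      exact Strat.empty _
    · obtain ⟨x, hx⟩ := hη
      obtain ⟨A', _, _, _, _, hext, Z, Z₁, i, j, _, _, _, _, _, hsm, ⟨w, hw⟩⟩ :=
        exists_step f x (by rw [hx])
      let u := extMap A A'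
      haveI : IsFinite u := (IsFinite.SpecMap_iff _).2 (RingHom.finite_algebraMap.2 hext.finite)
      haveI : UniversallyInjective u := hext.radicial
      let p : pullback f u ⟶ Y := pullback.fst f u
      haveI : IsFinite p := MorphismProperty.pullback_fst _ _ ‹IsFinite u›
      haveI hpu : UniversallyInjective p := MorphismProperty.pullback_fst _ _ ‹UniversallyInjective u›
      have hp : Topology.IsClosedEmbedding p :=
        Topology.IsClosedEmbedding.of_continuous_injective_isClosedMap p.continuous p.injective p.isClosedMap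
      let π₁ : Z₁ → X₀ := π ∘ p ∘ i ∘ j
      have hπ₁ : Topology.IsClosedEmbedding π₁ :=
        hπ.comp (hp.comp (i.isClosedEmbedding.comp j.isClosedEmbedding))
      let T' : Closeds X₀ := ⟨Set.range π₁, hπ₁.isClosed_range⟩
      have hlt : T' < T := by
        refine lt_of_le_not_ge (fun z ⟨z', hz'⟩ => hT ⟨p (i (j z')), hz'⟩) fun hle => ?_
        obtain ⟨z', hz'⟩ := hle (hT ⟨p (i w), rfl⟩)
        exact hw ⟨z', i.isClosedEmbedding.injective (hp.injective (hπ.injective hz'))⟩
      haveI : CompactSpace (pullback f u : Scheme.{u}) := QuasiCompact.compactSpace_of_compactSpace p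
      haveI : CompactSpace Z := i.isClosedEmbedding.compactSpace
      haveI : CompactSpace Z₁ := j.isClosedEmbedding.compactSpace
      let f₁ : Z₁ ⟶ Spec (CommRingCat.of A') := j ≫ i ≫ pullback.snd f u
      obtain ⟨A'', _, _, _, hext', g, hg0, hs⟩ := ih T' hlt A' Z₁ f₁ π₁ hπ₁ (le_refl (Set.range π₁))
      letI : Algebra A A'' := ((algebraMap A' A'').comp (algebraMap A A')).toAlgebra
      haveI : IsScalarTower A A' A'' := IsScalarTower.of_algebraMap_eq' rfl
      refine ⟨A'', inferInstance, inferInstance, inferInstance, hext.trans hext', g, hg0, ?_⟩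
      have h2 := Strat.step_baseChange (pullback.snd f u) i j hsm (bo g ≫ extMap A' A'') hs
      have he : (bo g ≫ extMap A' A'') ≫ u = bo g ≫ extMap A A'' := by
        show (bo g ≫ Spec.map _) ≫ Spec.map _ = bo g ≫ Spec.map _
        rw [Category.assoc, ← Spec.map_comp, ← CommRingCat.ofHom_comp, ← IsScalarTower.algebraMap_eq]
      have hsq := (IsPullback.of_hasPullback (pullback.snd f u) (bo g ≫ extMap A' A'')).paste_horiz
        (IsPullback.of_hasPullback f u)
      rw [he] at hsq
      exact Strat.of_isPullback hsq (IsPullback.of_hasPullback f _) h2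

/-- The Noetherian case. -/
theorem exists_strat_open (A : Type u) [CommRing A] [IsDomain A] [IsNoetherianRing A] (X : Scheme.{u})
    (f : X ⟶ Spec (CommRingCat.of A)) [LocallyOfFiniteType f] [QuasiCompact f] :
    ∃ (U : (Spec (CommRingCat.of A)).Opens) (V : Scheme.{u}) (v : V ⟶ (U : Scheme.{u})),
      (U : Set (Spec (CommRingCat.of A))).Nonempty ∧ Surjective v ∧ UniversallyInjective v ∧ Mor2.IsFinLocFree v ∧
      Strat (pullback.snd f (v ≫ U.ι)) := by
  haveI : IsLocallyNoetherian X := LocallyOfFiniteType.isLocallyNoetherian f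
  haveI : CompactSpace X := QuasiCompact.compactSpace_of_compactSpace f
  haveI : IsNoetherian X := {}
  obtain ⟨A', _, _, _, hext, g, hg0, hs⟩ :=
    exists_strat (X₀ := X) ⊤ A X f id Topology.IsClosedEmbedding.id (fun _ _ => trivial)
  let u := extMap A A'
  haveI : IsFinite u := (IsFinite.SpecMap_iff _).2 (RingHom.finite_algebraMap.2 hext.finite)
  haveI : UniversallyInjective u := hext.radicial
  haveI := hext.finite
  haveI : Algebra.IsIntegral A A' := Algebra.IsIntegral.of_finite A A'
  haveI : IsIntegral (Spec (CommRingCat.of A)) := inferInstance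
  obtain ⟨a, ha, ha0⟩ : ∃ a : A, algebraMap A A' a ∈ Ideal.span {g} ∧ a ≠ 0 := by
    have h := Ideal.comap_ne_bot_of_integral_mem (R := A) (I := Ideal.span {g}) hg0 (Ideal.mem_span_singleton_self g)
      (Algebra.IsIntegral.isIntegral g)
    obtain ⟨a, ha, ha0⟩ := Submodule.exists_mem_ne_zero_of_ne_bot h
    exact ⟨a, ha, ha0⟩
  obtain ⟨W, hW, hWflat⟩ := GrothLib.Rigidity.exists_flat_over_open u
  let U : (Spec (CommRingCat.of A)).Opens := W ⊓ PrimeSpectrum.basicOpen a
  have hUne : (U : Set (Spec (CommRingCat.of A))).Nonempty := by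
    obtain ⟨z⟩ := hW
    let η : PrimeSpectrum A := ⟨⊥, Ideal.isPrime_bot⟩
    have hη : ∀ O : (Spec (CommRingCat.of A)).Opens, (O : Set (Spec (CommRingCat.of A))).Nonempty → (η : Spec (CommRingCat.of A)) ∈ O :=
      fun O ⟨y, hy⟩ => ((PrimeSpectrum.le_iff_specializes η y).1 bot_le).mem_open O.2 hy
    exact ⟨η, hη W ⟨z.1, z.2⟩, fun h => ha0 (Ideal.mem_bot.1 h)⟩
  let v := u ∣_ U
  have hv := isPullback_morphismRestrict u U
  haveI : IsFinite v := MorphismProperty.of_isPullback hv.flip ‹IsFinite u›
  haveI : Flat v := by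
    haveI := hWflat
    have h1 : Flat (((Spec (CommRingCat.of A')).homOfLE (u.preimage_mono (inf_le_left : U ≤ W))) ≫ (u ⁻¹ᵁ W).ι ≫ u) :=
      inferInstance
    rw [← Category.assoc, Scheme.homOfLE_ι, ← morphismRestrict_ι] at h1
    exact (MorphismProperty.of_postcomp (W := @Flat) (W' := @IsOpenImmersion) (u ∣_ U) U.ι inferInstance h1)
  haveI : LocallyOfFinitePresentation v := by
    haveI : IsLocallyNoetherian (U : Scheme.{u}) := inferInstance
    infer_instance
  haveI : UniversallyInjective v := MorphismProperty.of_isPullback hv.flip ‹UniversallyInjective u›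
  haveI : Surjective u := ⟨fun p => by
    obtain ⟨Q, -, hQ, hQp⟩ := Ideal.exists_ideal_over_prime_of_isIntegral (PrimeSpectrum.asIdeal p) (⊥ : Ideal A')
      (by rw [show (⊥ : Ideal A').comap (algebraMap A A') = ⊥ from (RingHom.injective_iff_ker_eq_bot _).1 hext.inj]; exact bot_le)
    exact ⟨(⟨Q, hQ⟩ : PrimeSpectrum A'), PrimeSpectrum.ext hQp⟩⟩
  haveI : Surjective v := MorphismProperty.of_isPullback hv.flip ‹Surjective u›
  refine ⟨U, _, v, hUne, inferInstance, inferInstance, ⟨inferInstance, inferInstance, inferInstance⟩, ?_⟩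
  -- factor through the basic open
  have hsub : Set.range (u ⁻¹ᵁ U).ι ⊆ Set.range (bo g) := by
    rw [Scheme.Opens.range_ι]
    intro z hz
    show (z : PrimeSpectrum A') ∈ Set.range (PrimeSpectrum.comap (algebraMap A' (Localization.Away g)))
    rw [PrimeSpectrum.localization_away_comap_range (Localization.Away g) g]
    intro hgz
    have hspan : Ideal.span {g} ≤ (PrimeSpectrum.asIdeal z) := (Ideal.span_singleton_le_iff_mem _).2 hgz
    exact hz.2 (hspan ha)
  let l := IsOpenImmersion.lift (bo g) (u ⁻¹ᵁ U).ι hsub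
  have hl : l ≫ bo g ≫ u = v ≫ U.ι := by
    rw [IsOpenImmersion.lift_fac_assoc]
    exact hv.w.symm
  let p : pullback f (v ≫ U.ι) ⟶ pullback f (bo g ≫ extMap A A') :=
    pullback.lift (pullback.fst _ _) (pullback.snd _ _ ≫ l) (by rw [pullback.condition, Category.assoc, hl])
  refine hs.baseChange (p := p) (g := l) (IsPullback.of_right ?_ (pullback.lift_snd _ _ _) (IsPullback.of_hasPullback f _))
  rw [pullback.lift_fst, hl]
  exact IsPullback.of_hasPullback f _

end GrothLib.SmoothStrat6
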