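import Groth.Agent.Lib.PPGen.Finite
import Mathlib.AlgebraicGeometry.IdealSheaf.Functorial
import Mathlib.AlgebraicGeometry.Morphisms.Smooth
import Mathlib.AlgebraicGeometry.Morphisms.UnderlyingMap
import Mathlib.AlgebraicGeometry.PullbackCarrier

/-!
# Stratifications with smooth strata, as towers of closed immersions
-/

set_option autoImplicit false
set_option backward.isDefEq.respectTransparency false
set_option linter.style.haveILetI false

universe u

open CategoryTheory CategoryTheory.Limits AlgebraicGeometry TopologicalSpace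

noncomputable section

namespace GrothLib.SmoothStrat6

/-- The open complement of a closed immersion. -/
def complOpen {Z Z₁ : Scheme.{u}} (j : Z₁ ⟶ Z) [IsClosedImmersion j] : Z.Opens :=
  ⟨(Set.range j)ᶜ, j.isClosedEmbedding.isClosed_range.isOpen_compl⟩

/-- `Strat f`: after replacing `X` by a thickened version, an open part is smooth over the base and the
complement is stratified again. -/
inductive Strat : ∀ {X S : Scheme.{u}}, (X ⟶ S) → Prop
  | empty {X S : Scheme.{u}} (f : X ⟶ S) [IsEmpty X] : Strat f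
  | step {X S : Scheme.{u}} (f : X ⟶ S) {Z Z₁ : Scheme.{u}} (i : Z ⟶ X) (j : Z₁ ⟶ Z) [IsClosedImmersion i]
      [LocallyOfFinitePresentation i] [Surjective i] [IsClosedImmersion j] [LocallyOfFinitePresentation j]
      (hsm : Smooth ((complOpen j).ι ≫ i ≫ f)) (h : Strat (j ≫ i ≫ f)) : Strat f

/-- Base change of a stratification. -/
theorem Strat.baseChange {X S : Scheme.{u}} {f : X ⟶ S} (h : Strat f) :
    ∀ {X' S' : Scheme.{u}} {p : X' ⟶ X} {f' : X' ⟶ S'} {g : S' ⟶ S}, IsPullback p f' f g → Strat f' := by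
  induction h with
  | empty f =>
    intro X' S' p f' g _
    haveI : IsEmpty X' := Function.isEmpty p
    exact Strat.empty f'
  | @step X S f Z Z₁ i j _ _ _ _ _ hsm _ ih =>
    intro X' S' p f' g hp
    let i' := pullback.snd i p
    have hZ : IsPullback (pullback.fst i p) (i' ≫ f') (i ≫ f) g :=
      (IsPullback.of_hasPullback i p).paste_vert hp
    let j' := pullback.snd j (pullback.fst i p)
    have hZ₁ : IsPullback (pullback.fst j (pullback.fst i p)) (j' ≫ i' ≫ f') (j ≫ i ≫ f) g :=
      (IsPullback.of_hasPullback j (pullback.fst i p)).paste_vert hZ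
    haveI : IsClosedImmersion i' := MorphismProperty.pullback_snd _ _ ‹IsClosedImmersion i›
    haveI : LocallyOfFinitePresentation i' := MorphismProperty.pullback_snd _ _ ‹LocallyOfFinitePresentation i›
    haveI : Surjective i' := MorphismProperty.pullback_snd _ _ ‹Surjective i›
    haveI : IsClosedImmersion j' := MorphismProperty.pullback_snd _ _ ‹IsClosedImmersion j›
    haveI : LocallyOfFinitePresentation j' := MorphismProperty.pullback_snd _ _ ‹LocallyOfFinitePresentation j›
    refine Strat.step f' i' j' ?_ (ih hZ₁)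
    have hV : pullback.fst i p ⁻¹ᵁ complOpen j = complOpen j' := TopologicalSpace.Opens.ext (by
      show (pullback.fst i p) ⁻¹' (Set.range j)ᶜ = (Set.range j')ᶜ
      rw [Scheme.Pullback.range_snd, Set.preimage_compl])
    have hsq := (isPullback_morphismRestrict (pullback.fst i p) (complOpen j)).paste_vert hZ
    have h1 : Smooth ((pullback.fst i p ⁻¹ᵁ complOpen j).ι ≫ i' ≫ f') :=
      MorphismProperty.of_isPullback hsq hsm
    exact hV ▸ h1

/-- Smoothness of a stratum transfers to the ideal of a closed immersion. -/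
theorem smooth_transfer {W X S : Scheme.{u}} (a : W ⟶ X) [IsClosedImmersion a] (f : X ⟶ S) (O : X.Opens)
    (h : Smooth ((a ⁻¹ᵁ O).ι ≫ a ≫ f)) :
    Smooth ((a.ker.subschemeι ⁻¹ᵁ O).ι ≫ a.ker.subschemeι ≫ f) := by
  let e := a.toImage
  have he : (e ∣_ (a.ker.subschemeι ⁻¹ᵁ O)) ≫ (a.ker.subschemeι ⁻¹ᵁ O).ι ≫ a.ker.subschemeι ≫ f =
      (e ⁻¹ᵁ (a.ker.subschemeι ⁻¹ᵁ O)).ι ≫ a ≫ f := by
    rw [morphismRestrict_ι_assoc]
    exact congrArg _ (a.toImage_imageι_assoc f)
  have h' : Smooth ((e ⁻¹ᵁ (a.ker.subschemeι ⁻¹ᵁ O)).ι ≫ a ≫ f) := by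
    have : e ⁻¹ᵁ (a.ker.subschemeι ⁻¹ᵁ O) = a ⁻¹ᵁ O := by
      rw [← Scheme.Hom.comp_preimage]
      exact congrArg (· ⁻¹ᵁ O) a.toImage_imageι
    rw [this]; exact h
  haveI : IsIso e := inferInstanceAs (IsIso a.toImage)
  exact (MorphismProperty.cancel_left_of_respectsIso (P := @Smooth) (e ∣_ _) _).1 (he ▸ h')

/-- The ideal form. -/
theorem Strat.exists_ideals {X S : Scheme.{u}} {f : X ⟶ S} (h : Strat f) :
    ∃ (t : ℕ) (J : Fin (t + 1) → X.IdealSheafData), Monotone J ∧ J (Fin.last t) = ⊤ ∧
      ((J 0).support : Set X) = Set.univ ∧ (∀ k, LocallyOfFinitePresentation (J k).subschemeι) ∧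
      ∀ k : Fin t, Smooth (((J k.castSucc).subschemeι ⁻¹ᵁ (J k.succ).support.compl).ι ≫
        (J k.castSucc).subschemeι ≫ f) := by
  induction h with
  | @empty X S f _ =>
    refine ⟨0, fun _ => ⊤, fun _ _ _ => le_rfl, rfl, Set.ext fun x => isEmptyElim x, fun _ => ?_, fun k => k.elim0⟩
    haveI : IsEmpty (⊤ : X.IdealSheafData).subscheme := Function.isEmpty (Scheme.IdealSheafData.subschemeι ⊤)
    exact inferInstance
  | @step X S f Z Z₁ i j _ _ _ _ _ hsm _ ih =>
    obtain ⟨t, J, hmono, htop, hsupp, hlfp, hJ⟩ := ih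
    let a := j ≫ i
    let K : Fin (t + 1 + 1) → X.IdealSheafData := Fin.cons i.ker fun k => (J k).map a
    have hKlfp : ∀ {W : Scheme.{u}} (b : W ⟶ X) [IsClosedImmersion b] [LocallyOfFinitePresentation b],
        LocallyOfFinitePresentation b.ker.subschemeι := fun b _ _ => by
      haveI : IsIso b.toImage := inferInstance
      have : LocallyOfFinitePresentation (b.toImage ≫ b.imageι) := by rw [b.toImage_imageι]; infer_instance
      exact (MorphismProperty.cancel_left_of_respectsIso (P := @LocallyOfFinitePresentation) b.toImage _).1 this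
    have hle : ∀ k, i.ker ≤ (J k).map a := fun k => by
      show i.ker ≤ ((J k).subschemeι ≫ j ≫ i).ker
      rw [← Category.assoc]
      exact Scheme.Hom.le_ker_comp _ _
    refine ⟨t + 1, K, ?_, ?_, ?_, ?_, ?_⟩
    · refine Fin.monotone_iff_le_succ.2 fun k => ?_
      refine Fin.cases ?_ (fun k => ?_) k
      · exact hle 0
      · rw [← Fin.succ_castSucc]
        exact Scheme.IdealSheafData.map_mono a (hmono (Fin.castSucc_lt_succ).le)
    · show K (Fin.last (t + 1)) = ⊤
      rw [← Fin.succ_last]
      show (J (Fin.last t)).map a = ⊤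
      rw [htop, Scheme.IdealSheafData.map_top]
    · show (i.ker.support : Set X) = Set.univ
      rw [Scheme.Hom.support_ker, i.surjective.range_eq, closure_univ]
    · refine Fin.cases ?_ (fun k => ?_)
      · exact hKlfp i
      · haveI := hlfp k
        exact hKlfp ((J k).subschemeι ≫ a)
    · refine Fin.cases ?_ (fun k => ?_)
      · refine smooth_transfer i f _ ?_
        have hO : i ⁻¹ᵁ ((J 0).map a).support.compl = complOpen j := TopologicalSpace.Opens.ext (by
          show i ⁻¹' ((((J 0).map a).support : Closeds X) : Set X)ᶜ = (Set.range j)ᶜ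
          have hI : (((J 0).map a).support : Set X) = closure (a '' ((J 0).support : Set Z₁)) := by
            rw [Scheme.IdealSheafData.support_map]; rfl
          rw [hI, hsupp, Set.image_univ, a.isClosedEmbedding.isClosed_range.closure_eq, Set.preimage_compl,
            Scheme.Hom.comp_base, TopCat.coe_comp, Set.range_comp,
            Set.preimage_image_eq _ i.isClosedEmbedding.injective])
        show Smooth ((i ⁻¹ᵁ ((J 0).map a).support.compl).ι ≫ i ≫ f)
        rw [hO]
        exact hsm
      · refine smooth_transfer ((J k.castSucc).subschemeι ≫ a) f _ ?_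
        have hO : ((J k.castSucc).subschemeι ≫ a) ⁻¹ᵁ ((J k.succ).map a).support.compl =
            (J k.castSucc).subschemeι ⁻¹ᵁ (J k.succ).support.compl := TopologicalSpace.Opens.ext (by
          show ((J k.castSucc).subschemeι ≫ a) ⁻¹' ((((J k.succ).map a).support : Closeds X) : Set X)ᶜ =
            (J k.castSucc).subschemeι ⁻¹' (((J k.succ).support : Closeds Z₁) : Set Z₁)ᶜ
          rw [Scheme.IdealSheafData.support_map, TopologicalSpace.Closeds.coe_closure,
            (a.isClosedEmbedding.isClosedMap _ (J k.succ).support.isClosed).closure_eq, Scheme.Hom.comp_base,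
            TopCat.coe_comp, Set.preimage_comp, Set.preimage_compl,
            Set.preimage_image_eq _ a.isClosedEmbedding.injective])
        show Smooth ((((J k.castSucc).subschemeι ≫ a) ⁻¹ᵁ ((J k.succ).map a).support.compl).ι ≫
          ((J k.castSucc).subschemeι ≫ a) ≫ f)
        rw [hO]
        simpa [a, Category.assoc] using hJ k

theorem Strat.exists_ideals_fg {X S : Scheme.{u}} {f : X ⟶ S} (h : Strat f) :
    ∃ (t : ℕ) (J : Fin (t + 1) → X.IdealSheafData), Monotone J ∧ J (Fin.last t) = ⊤ ∧
      ((J 0).support : Set X) = Set.univ ∧ (∀ k, ∀ O : X.affineOpens, ((J k).ideal O).FG) ∧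
      ∀ k : Fin t, Smooth (((J k.castSucc).subschemeι ⁻¹ᵁ (J k.succ).support.compl).ι ≫
        (J k.castSucc).subschemeι ≫ f) := by
  obtain ⟨t, J, h1, h2, h3, h4, h5⟩ := h.exists_ideals
  refine ⟨t, J, h1, h2, h3, fun k O => ?_, h5⟩
  haveI := h4 k
  have := GrothLib.PPGen.ker_ideal_fg (J k).subschemeι O
  rwa [Scheme.IdealSheafData.ker_subschemeι] at this

end GrothLib.SmoothStrat6
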