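import Groth.Agent.Lib.SmoothStrat6.GenQS2
import Groth.Agent.Lib.SmoothStrat6.Chart
import Groth.Prelude.Def_Flat
import Groth.Prelude.Def_Curv2
import Groth.Agent.Lib.GRModel5.Basic
import Groth.Agent.Lib.GeomRed6.Fibres
import Groth.Agent.Lib.Frob.Basic

/-!
# A finite universal homeomorphism making the generic fibre of the reduction geometrically reduced
-/

set_option autoImplicit false
set_option backward.isDefEq.respectTransparency false
set_option linter.style.haveILetI false
set_option maxHeartbeats 1000000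

universe u

open CategoryTheory CategoryTheory.Limits AlgebraicGeometry TopologicalSpace

noncomputable section

namespace GrothLib.SmoothStrat6

/-- Transport of geometric reducedness along a geometric point factoring through a field point. -/
theorem isReduced_pullback_of_geometricallyReduced {X S : Scheme.{u}} (h : X ⟶ S) {k' : Type u} [Field k']
    (s : Spec (CommRingCat.of k') ⟶ S) (hgr : GeometricallyReduced (pullback.snd h s)) {F : Type u} [Field F]
    [IsAlgClosed F] (σ : Spec (CommRingCat.of F) ⟶ Spec (CommRingCat.of k')) {t : Spec (CommRingCat.of F) ⟶ S}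
    (ht : σ ≫ s = t) : IsReduced (pullback h t) := by
  haveI : IsReduced (pullback (pullback.snd h s) σ) :=
    (GrothLib.CurveLocus.geometricallyReduced_iff _).1 hgr F σ _ _ _ (IsPullback.of_hasPullback _ σ)
  have h1 := (IsPullback.of_hasPullback (pullback.snd h s) σ).paste_horiz (IsPullback.of_hasPullback h s)
  rw [ht] at h1
  exact isReduced_of_isOpenImmersion h1.isoPullback.inv

/-- The base change to a field of a reduced closed subscheme with the same points computes the reduction. -/
theorem geometricallyReduced_of_reduction {P Q : Scheme.{u}} {k' : Type u} [Field k']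
    (a : Q ⟶ P) [IsClosedImmersion a] [IsReduced Q] [Surjective a] (p : P ⟶ Spec (CommRingCat.of k'))
    (hgr : GeometricallyReduced (P.nilradical.subschemeι ≫ p)) : GeometricallyReduced (a ≫ p) := by
  haveI : IsReduced P.nilradical.subscheme := by
    rw [← Scheme.IdealSheafData.vanishingIdeal_top]
    exact GrothLib.RedSub.isReduced_subscheme_vanishingIdeal _
  obtain ⟨e, he⟩ := GrothLib.RedSub.exists_iso_of_range_eq a P.nilradical.subschemeι (by
    rw [a.surjective.range_eq, Scheme.IdealSheafData.range_subschemeι, Scheme.support_nilradical]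
    rfl)
  rw [← he, Category.assoc]
  exact (MorphismProperty.cancel_left_of_respectsIso (P := @GeometricallyReduced) e.hom _).2 hgr

/-- The statement. -/
theorem exists_univHomeo_model {X Y : Scheme.{u}} (f : X ⟶ Y) [IrreducibleSpace ↑Y] [LocallyOfFiniteType f]
    [QuasiCompact f] :
    ∃ (V : Y.Opens) (Y' : Scheme.{u}) (g : Y' ⟶ (V : Scheme.{u})) (X' : Scheme.{u}) (r : X' ⟶ pullback f (g ≫ V.ι))
      (_ : IsIntegral Y'),
      (V : Set ↑Y).Nonempty ∧ IsAffine Y' ∧ IsFinite g ∧ FlatMor.IsUnivHomeo g ∧ IsClosedImmersion r ∧ Surjective r ∧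
      IsReduced X' ∧
      Flat (r ≫ pullback.snd f (g ≫ V.ι)) ∧ LocallyOfFinitePresentation (r ≫ pullback.snd f (g ≫ V.ι)) ∧
      QuasiCompact (r ≫ pullback.snd f (g ≫ V.ι)) ∧ QuasiSeparated (r ≫ pullback.snd f (g ≫ V.ι)) ∧
      GeometricallyReduced ((r ≫ pullback.snd f (g ≫ V.ι)).fiberToSpecResidueField (genericPoint ↑Y')) := by
  classical
  obtain ⟨V0, hV0, hηV, -⟩ := exists_isAffineOpen_mem_and_subset (show genericPoint Y ∈ (⊤ : Y.Opens) from trivial)
  obtain ⟨y, hy⟩ : genericPoint Y ∈ Set.range hV0.fromSpec := by rw [hV0.range_fromSpec]; exact hηV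
  let A₀ := Γ(Y, V0)
  let P : Ideal A₀ := y.asIdeal
  haveI : P.IsPrime := y.isPrime
  have hP : ∀ z : Spec A₀, P ≤ z.asIdeal := fun z => (PrimeSpectrum.le_iff_specializes y z).2 <| by
    rw [← hV0.fromSpec.isOpenEmbedding.isInducing.specializes_iff, hy]
    exact (genericPoint_spec Y).specializes trivial
  let A := A₀ ⧸ P
  let q : Spec (CommRingCat.of A) ⟶ Spec A₀ := Spec.map (CommRingCat.ofHom (Ideal.Quotient.mk P))
  haveI : IsClosedImmersion q := IsClosedImmersion.spec_of_surjective _ Ideal.Quotient.mk_surjective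
  haveI : Surjective q := ⟨fun z => by
    have : z ∈ Set.range (PrimeSpectrum.comap (Ideal.Quotient.mk P)) := by
      rw [range_comap_of_surjective _ _ Ideal.Quotient.mk_surjective, Ideal.mk_ker]
      exact hP z
    exact this⟩
  let K := FractionRing A
  let tK : Spec (CommRingCat.of K) ⟶ Y := extMap A K ≫ q ≫ hV0.fromSpec
  let XK : Scheme.{u} := pullback f tK
  letI : XK.Over (Spec (CommRingCat.of K)) := ⟨pullback.snd f tK⟩
  haveI : LocallyOfFiniteType (XK ↘ Spec (CommRingCat.of K)) :=
    MorphismProperty.pullback_snd _ _ ‹LocallyOfFiniteType f›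
  haveI : QuasiCompact (XK ↘ Spec (CommRingCat.of K)) := MorphismProperty.pullback_snd _ _ ‹QuasiCompact f›
  haveI : IsLocallyNoetherian XK := LocallyOfFiniteType.isLocallyNoetherian (XK ↘ Spec (CommRingCat.of K))
  haveI : CompactSpace XK := QuasiCompact.compactSpace_of_compactSpace (XK ↘ Spec (CommRingCat.of K))
  haveI : IsNoetherian XK := {}
  obtain ⟨k', _, _, _, _, hgr⟩ := GrothLib.GRModel5.exists_model K XK
    TopologicalSpace.NoetherianSpace.finite_irreducibleComponents
  letI : Algebra A k' := ((algebraMap K k').comp (algebraMap A K)).toAlgebra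
  haveI : IsScalarTower A K k' := IsScalarTower.of_algebraMap_eq' rfl
  obtain ⟨A', hext, hfr⟩ := exists_ext A K k'
  haveI := hfr
  haveI := hext.finite
  haveI : UniversallyInjective (extMap A A') := hext.radicial
  haveI : IsFinite (extMap A A') := (IsFinite.SpecMap_iff _).2 (RingHom.finite_algebraMap.2 hext.finite)
  haveI : Algebra.IsIntegral A A' := Algebra.IsIntegral.of_finite A A'
  haveI : Surjective (extMap A A') := ⟨fun p => by
    obtain ⟨Q, -, hQ, hQp⟩ := Ideal.exists_ideal_over_prime_of_isIntegral (PrimeSpectrum.asIdeal p) (⊥ : Ideal A')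
      (by rw [show (⊥ : Ideal A').comap (algebraMap A A') = ⊥ from (RingHom.injective_iff_ker_eq_bot _).1 hext.inj]; exact bot_le)
    exact ⟨(⟨Q, hQ⟩ : PrimeSpectrum A'), PrimeSpectrum.ext hQp⟩⟩
  -- the reduction over the extension
  let e : Spec (CommRingCat.of A') ⟶ Spec A₀ := extMap A A' ≫ q
  haveI : UniversallyInjective e := MorphismProperty.comp_mem _ _ _ hext.radicial inferInstance
  haveI : IsFinite e := inferInstance
  haveI : Surjective e := inferInstance
  let u : Spec (CommRingCat.of A') ⟶ Y := e ≫ hV0.fromSpec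
  let P1 := pullback f u
  let I := Scheme.IdealSheafData.vanishingIdeal (⊤ : Closeds P1)
  let r0 : I.subscheme ⟶ P1 := I.subschemeι
  haveI : IsReduced I.subscheme := GrothLib.RedSub.isReduced_subscheme_vanishingIdeal _
  haveI : IsClosedImmersion r0 := inferInstanceAs (IsClosedImmersion (Scheme.IdealSheafData.subschemeι _))
  haveI : Surjective r0 := ⟨Set.range_eq_univ.1 (GrothLib.RedSub.range_subschemeι_vanishingIdeal _)⟩
  haveI : LocallyOfFiniteType (pullback.snd f u) := MorphismProperty.pullback_snd _ _ ‹LocallyOfFiniteType f›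
  haveI : QuasiCompact (pullback.snd f u) := MorphismProperty.pullback_snd _ _ ‹QuasiCompact f›
  let h := r0 ≫ pullback.snd f u
  obtain ⟨a', ha', hflat, hlfp, hqc, hqs⟩ := exists_basicOpen_flat_qs h
  obtain ⟨a, ha, ha0⟩ : ∃ a : A, algebraMap A A' a ∈ Ideal.span {a'} ∧ a ≠ 0 := by
    have h := Ideal.comap_ne_bot_of_integral_mem (R := A) (I := Ideal.span {a'}) ha' (Ideal.mem_span_singleton_self a')
      (Algebra.IsIntegral.isIntegral a')
    obtain ⟨a, ha, ha0⟩ := Submodule.exists_mem_ne_zero_of_ne_bot h
    exact ⟨a, ha, ha0⟩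
  obtain ⟨a₀, rfl⟩ := Ideal.Quotient.mk_surjective a
  let D : (Spec A₀).Opens := PrimeSpectrum.basicOpen a₀
  let B : (Spec (CommRingCat.of A')).Opens := e ⁻¹ᵁ D
  let D' : (Spec (CommRingCat.of A')).Opens := PrimeSpectrum.basicOpen a'
  have hBD : B ≤ D' := fun z hz hmem => hz <| by
    have hspan : Ideal.span {a'} ≤ (PrimeSpectrum.asIdeal z) := (Ideal.span_singleton_le_iff_mem _).2 hmem
    exact hspan ha
  let η' : PrimeSpectrum A' := ⟨⊥, Ideal.isPrime_bot⟩
  have hηB : (η' : Spec (CommRingCat.of A')) ∈ B := fun hmem => by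
    have h1 : algebraMap A A' (Ideal.Quotient.mk P a₀) = 0 := hmem
    exact ha0 (hext.inj (h1.trans (map_zero _).symm))
  haveI : Nonempty B.toScheme := ⟨⟨_, hηB⟩⟩
  haveI hint : IsIntegral B.toScheme := isIntegral_of_isOpenImmersion B.ι
  have hBaff : IsAffineOpen B := by
    refine IsAffineOpen.preimage ?_ e
    show IsAffineOpen (X := Spec A₀) (PrimeSpectrum.basicOpen a₀)
    rw [← basicOpen_eq_of_affine a₀]
    exact (isAffineOpen_top _).basicOpen _
  let g : B.toScheme ⟶ (hV0.fromSpec ''ᵁ D).toScheme := (e ∣_ D) ≫ (hV0.fromSpec.isoImage D).hom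
  have hgι : g ≫ (hV0.fromSpec ''ᵁ D).ι = B.ι ≫ u := by
    simp only [g, u, Category.assoc, Scheme.Hom.isoImage_hom_ι]
    rw [morphismRestrict_ι_assoc]
  haveI : UniversallyInjective (e ∣_ D) := MorphismProperty.of_isPullback (isPullback_morphismRestrict e D).flip ‹_›
  haveI : Surjective (e ∣_ D) := MorphismProperty.of_isPullback (isPullback_morphismRestrict e D).flip ‹_›
  haveI : IsFinite (e ∣_ D) := MorphismProperty.of_isPullback (isPullback_morphismRestrict e D).flip ‹_›
  haveI : UniversallyInjective g := MorphismProperty.comp_mem _ _ _ ‹UniversallyInjective (e ∣_ D)› inferInstance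
  haveI : IsFinite g := inferInstance
  haveI : Surjective g := inferInstance
  -- the strata
  let m : pullback f (g ≫ (hV0.fromSpec ''ᵁ D).ι) ⟶ P1 :=
    pullback.lift (pullback.fst _ _) (pullback.snd _ _ ≫ B.ι)
      ((pullback.condition.trans (congrArg (pullback.snd f (g ≫ (hV0.fromSpec ''ᵁ D).ι) ≫ ·) hgι)).trans (Category.assoc _ _ _).symm)
  have hm : IsPullback m (pullback.snd f (g ≫ (hV0.fromSpec ''ᵁ D).ι)) (pullback.snd f u) B.ι := by
    refine IsPullback.of_right ?_ (pullback.lift_snd _ _ _) (IsPullback.of_hasPullback f u)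
    rw [show m ≫ pullback.fst f u = _ from pullback.lift_fst _ _ _, ← hgι]
    exact IsPullback.of_hasPullback f _
  let r := pullback.snd r0 m
  haveI : IsOpenImmersion m := MorphismProperty.of_isPullback hm.flip (inferInstanceAs (IsOpenImmersion B.ι))
  haveI : IsClosedImmersion r := MorphismProperty.pullback_snd _ _ ‹IsClosedImmersion r0›
  haveI : Surjective r := MorphismProperty.pullback_snd _ _ ‹Surjective r0›
  haveI : IsReduced (pullback r0 m) := isReduced_of_isOpenImmersion (pullback.fst r0 m)
  let h' := r ≫ pullback.snd f (g ≫ (hV0.fromSpec ''ᵁ D).ι)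
  have hh' : IsPullback (pullback.fst r0 m) h' h B.ι := (IsPullback.of_hasPullback r0 m).paste_vert hm
  have hres : (Spec (CommRingCat.of A')).homOfLE hBD ≫ D'.ι = B.ι := Scheme.homOfLE_ι _ _
  obtain ⟨c, hc⟩ : ∃ c, IsPullback c h' (h ∣_ D') ((Spec (CommRingCat.of A')).homOfLE hBD) := by
    rw [← hres] at hh'
    exact ⟨_, IsPullback.of_right' hh' (isPullback_morphismRestrict h D').flip⟩
  refine ⟨hV0.fromSpec ''ᵁ D, B.toScheme, g, pullback r0 m, r, hint,
    ⟨u (η' : Spec (CommRingCat.of A')), e (η' : Spec (CommRingCat.of A')), hηB, rfl⟩,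
    hBaff, inferInstance, GrothLib.Frob.isUnivHomeo_of g,
    inferInstance, inferInstance, inferInstance, MorphismProperty.of_isPullback hc hflat,
    MorphismProperty.of_isPullback hc hlfp, MorphismProperty.of_isPullback hc hqc,
    MorphismProperty.of_isPullback hc hqs, ?_⟩
  -- the generic fibre
  let tk : Spec (CommRingCat.of k') ⟶ Spec (CommRingCat.of A') := extMap A' k'
  haveI : IsPreimmersion tk := IsPreimmersion.of_isLocalization (nonZeroDivisors A')
  haveI : Flat tk := (HasRingHomProperty.Spec_iff (P := @Flat)).2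
    (RingHom.flat_algebraMap_iff.2 (IsLocalization.flat k' (nonZeroDivisors A')))
  have hgrh : GeometricallyReduced (pullback.snd h tk) := by
    haveI : IsReduced (pullback h tk) := isReduced_pullback_of_flat_preimmersion h tk
    have hsq : extMap K k' ≫ tK = tk ≫ u := by
      simp only [tK, tk, u, e, Category.assoc]
      rw [← Category.assoc, ← Category.assoc (extMap A' k'), ← Spec.map_comp, ← Spec.map_comp,
        ← CommRingCat.ofHom_comp, ← CommRingCat.ofHom_comp, ← IsScalarTower.algebraMap_eq, ← IsScalarTower.algebraMap_eq]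
    have hbc : IsPullback (pullback.fst (pullback.snd f tK) (extMap K k') ≫ pullback.fst f tK)
        (pullback.snd (pullback.snd f tK) (extMap K k')) f (tk ≫ u) :=
      hsq ▸ (IsPullback.of_hasPullback (pullback.snd f tK) (extMap K k')).paste_horiz (IsPullback.of_hasPullback f tK)
    have hP2 := (IsPullback.of_hasPullback (pullback.snd f u) tk).paste_horiz (IsPullback.of_hasPullback f u)
    let i := hP2.isoIsPullback _ _ hbc
    let a := pullback.map h tk (pullback.snd f u) tk r0 (𝟙 _) (𝟙 _) (by simp [h]) (by simp)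
    have ha : IsPullback (pullback.fst h tk) a r0 (pullback.fst (pullback.snd f u) tk) := by
      refine IsPullback.of_bot ?_ (pullback.lift_fst _ _ _).symm (IsPullback.of_hasPullback (pullback.snd f u) tk)
      rw [show a ≫ pullback.snd (pullback.snd f u) tk = pullback.snd h tk from
        (pullback.lift_snd _ _ _).trans (Category.comp_id _)]
      exact IsPullback.of_hasPullback h tk
    haveI : IsClosedImmersion a := MorphismProperty.of_isPullback ha ‹IsClosedImmersion r0›
    haveI : Surjective a := MorphismProperty.of_isPullback ha ‹Surjective r0›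
    have h2 := geometricallyReduced_of_reduction (a ≫ i.hom) (pullback.snd (pullback.snd f tK) (extMap K k')) hgr
    rw [Category.assoc, hP2.isoIsPullback_hom_snd _ _ hbc] at h2
    rwa [show a ≫ pullback.snd (pullback.snd f u) tk = pullback.snd h tk from
      (pullback.lift_snd _ _ _).trans (Category.comp_id _)] at h2
  rw [GrothLib.GeomRed6.geometricallyReduced_fiber_iff]
  intro F _ _ t ht
  let φ := Spec.preimage (t ≫ B.ι)
  have hφ : Spec.map φ = t ≫ B.ι := Spec.map_preimage _
  have hinj : Function.Injective φ.hom := by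
    have hgen : B.ι (genericPoint B.toScheme) = (η' : Spec (CommRingCat.of A')) := by
      refine ((genericPoint_spec B.toScheme).eq (y := ⟨_, hηB⟩) ?_) ▸ rfl
      refine isGenericPoint_iff_specializes.2 fun z => ⟨fun _ => trivial, fun _ => ?_⟩
      exact (subtype_specializes_iff (p := fun x => x ∈ B) ⟨_, hηB⟩ z).2
        ((PrimeSpectrum.le_iff_specializes η' z.1).1 bot_le)
    have hker : (Spec.map φ (IsLocalRing.closedPoint F) : PrimeSpectrum A').asIdeal = ⊥ := by
      rw [hφ, Scheme.Hom.comp_apply]
      rw [show t (IsLocalRing.closedPoint F) = genericPoint B.toScheme from ht, hgen]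
    refine (RingHom.injective_iff_ker_eq_bot _).2 (eq_bot_iff.2 fun x hx => hker ▸ ?_)
    show φ.hom x ∈ IsLocalRing.maximalIdeal F
    rw [RingHom.mem_ker.1 hx]
    exact Submodule.zero_mem _
  let σ : Spec (CommRingCat.of F) ⟶ Spec (CommRingCat.of k') :=
    Spec.map (CommRingCat.ofHom (IsFractionRing.lift (K := k') hinj))
  have hσ : σ ≫ tk = t ≫ B.ι := by
    rw [← hφ]
    show Spec.map _ ≫ Spec.map _ = _
    rw [← Spec.map_comp]
    congr 1
    exact CommRingCat.hom_ext (RingHom.ext fun x => IsFractionRing.lift_algebraMap hinj x)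
  haveI := isReduced_pullback_of_geometricallyReduced h tk hgrh σ hσ
  have h1 := (IsPullback.of_hasPullback h' t).paste_horiz hh'
  exact isReduced_of_isOpenImmersion h1.isoPullback.hom

end GrothLib.SmoothStrat6
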